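import Cfsg.Agent.SuzukiType.ThreeU43.Quot
import Cfsg.Agent.UFourThreeType.ThreeComm

/-!
The centralizer of an element of order three with quaternion commutator is a perfect central extension of the
unitary group.
-/

set_option autoImplicit false
set_option maxRecDepth 100000
set_option maxHeartbeats 1000000
set_option linter.unusedSectionVars false
set_option linter.style.haveILetI false

namespace Cfsg.Lib.SuzukiType.ThreeU43

open Subgroup Cfsg.Lib.SuzukiType.Code Cfsg.Lib.SuzukiType.ThreeU43.Code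
open Cfsg.Lib.Classical.OrthH1 (lN pN sN)
open Cfsg.Lib.UFourThreeCover (K card_K card_psu)
open scoped commutatorElement

universe u

/-- The second rotation. -/
noncomputable def g2r : O6 := pel (5, 17) (by decide +kernel)

theorem cd_g2r {x : ℕ} (hx : x < 64) : cd g2r x = rot 5 17 x := cd_pel _ _ hx

theorem g2r_mem : g2r ∈ Om := pel_mem _ _ (by decide +kernel)

theorem g2r_comm : Commute g2r g0 := cd_ext fun x hx => by
  rw [cd_mul, cd_mul, cd_g0 hx, cd_g2r (rot_lt (by norm_num) (by norm_num) hx), cd_g2r hx,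
    cd_g0 (rot_lt (by norm_num) (by norm_num) hx)]
  exact beq_iff_eq.mp (List.all_eq_true.mp second_ok.1 x (List.mem_range.mpr hx))

theorem second_row {x : ℕ} (hx : x < 64) :
    wact g1 [2, 0, 1, 0, 0, 1, 2, 2] (r0 x) = r0 (wact g1 [2, 0, 1, 0, 0, 1, 2, 2] x) ∧
    wact g1 [2, 0, 1, 0, 0, 1, 2, 2] (rot 5 17 x) = rot 17 5 (wact g1 [2, 0, 1, 0, 0, 1, 2, 2] x) ∧
    wact g1 [1, 0, 2, 0] (r0 x) = rot 17 5 (wact g1 [1, 0, 2, 0] x) ∧
    rot 5 17 (rot 17 5 x) = x ∧ rot 5 17 (rot 5 17 (rot 5 17 x)) = x := by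
  have h := List.all_eq_true.mp second_ok.2.1 x (List.mem_range.mpr hx)
  simp only [Bool.and_eq_true, beq_iff_eq] at h
  obtain ⟨⟨⟨⟨a, b⟩, c⟩, d⟩, e⟩ := h
  exact ⟨a, b, c, d, e⟩

theorem g2r_cube : g2r * g2r * g2r = 1 := cd_ext fun x hx => by
  have l1 : rot 5 17 x < 64 := rot_lt (by norm_num) (by norm_num) hx
  rw [cd_mul, cd_mul, cd_g2r hx, cd_g2r l1, cd_g2r (rot_lt (by norm_num) (by norm_num) l1), (second_row hx).2.2.2.2,
    cd_one hx]

theorem g2r_inv {x : ℕ} (hx : x < 64) : cd g2r⁻¹ x = rot 17 5 x := by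
  have l1 : rot 17 5 x < 64 := rot_lt (by norm_num) (by norm_num) hx
  conv_lhs => rw [← (second_row hx).2.2.2.1, ← cd_g2r l1, cd_inv _ l1]

theorem g2r_not_pow (i : ℕ) : g2r ≠ g0 ^ i := fun e => by
  have h : ∀ n : ℕ, cd (g0 ^ n) 5 = 5 := fun n => by
    induction n with
    | zero => rw [pow_zero, cd_one (by norm_num)]
    | succ n ih => rw [pow_succ, cd_mul, cd_g0 (by norm_num), show r0 5 = 5 by decide +kernel, ih]
  have h5 := h i
  rw [← e, cd_g2r (by norm_num)] at h5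
  exact absurd h5 (by decide +kernel)

variable {G : Type u} [Group G] [Finite G] {z : G}

namespace Three

variable (T : Three z)

theorem iso_K : Nonempty (T.Hb ≃* Cfsg.PSU 4 K 3) := by
  obtain ⟨c⟩ := T.exists_ctx_b
  obtain ⟨S⟩ := Cfsg.Lib.UFourThreeType.exists_sys c
  obtain ⟨B⟩ := S.exists_big
  exact B.iso_psu

theorem simple_b : IsSimpleGroup T.Hb := by
  obtain ⟨e⟩ := T.iso_K
  haveI := Cfsg.Agent.S0283.result (F := K) (q := 3) card_K 4 (by norm_num) (by norm_num)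
  exact e.isSimpleGroup

theorem nonabelian_b : ¬ ∀ a b : T.Hb, a * b = b * a := fun h => by
  haveI := T.simple_b
  obtain ⟨e⟩ := T.iso_K
  haveI : IsMulCommutative T.Hb := ⟨⟨h⟩⟩
  have hp := (Group.is_simple_iff_prime_card (α := T.Hb)).mp inferInstance
  rw [(Nat.card_congr e.toEquiv).trans card_psu] at hp
  norm_num at hp

theorem center_b : center T.Hb = ⊥ := by
  haveI := T.simple_b
  refine (IsSimpleGroup.eq_bot_or_eq_top_of_normal _ inferInstance).resolve_right fun h => T.nonabelian_b fun a b => ?_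
  exact (mem_center_iff.mp (h ▸ mem_top a : a ∈ center T.Hb) b).symm

theorem commutator_b : commutator T.Hb = ⊤ := by
  haveI := T.simple_b
  refine (IsSimpleGroup.eq_bot_or_eq_top_of_normal _ inferInstance).resolve_left fun h => T.nonabelian_b fun a b => ?_
  exact commutatorElement_eq_one_iff_mul_comm.mp
    (Subgroup.mem_bot.mp (h ▸ Subgroup.commutator_mem_commutator (mem_top a) (mem_top b)))

theorem m_pow {x : G} (hx : Commute x z) : ∀ n : ℕ, T.toCtx.m (x ^ n) = T.toCtx.m x ^ n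
  | 0 => by rw [pow_zero, pow_zero, T.toCtx.m_one]
  | n + 1 => by rw [pow_succ, pow_succ, T.toCtx.m_mul (hx.pow_left n) hx, m_pow hx n]

/-- An element of order three carrying the second rotation. -/
theorem exists_second : ∃ y2, y2 ∈ T.MC ∧ orderOf y2 = 3 ∧ T.toCtx.m y2 = g2r := by
  obtain ⟨x, hxz, hxm, hxe⟩ := T.lift_to g2r_mem T.y3 T.yz
    (by rw [T.my, g2r_comm.eq, mul_inv_cancel_right])
  have hxy : Commute x T.y := mul_inv_eq_iff_eq_mul.mp hxe
  have hMC : x ∈ T.MC := T.mem_MC.mpr ⟨hxz, hxy⟩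
  have g3 : g2r ^ 3 = 1 := by rw [pow_three, ← mul_assoc, g2r_cube]
  have hq : x ^ 3 ∈ T.Q0 := T.mem_Q0.mpr ⟨(T.toCtx.m_one_iff (hxz.pow_left 3)).mp (by
    rw [T.m_pow hxz, hxm, g3]), hxy.pow_left 3⟩
  have h12 : (x ^ 4) ^ 3 = 1 := by
    rw [← pow_mul, show 4 * 3 = 3 * 4 by norm_num, pow_mul]
    exact T.Q0_four hq
  have hm : T.toCtx.m (x ^ 4) = g2r := by rw [T.m_pow hxz, hxm, pow_succ, g3, one_mul]
  haveI : Fact (Nat.Prime 3) := ⟨Nat.prime_three⟩
  refine ⟨x ^ 4, pow_mem hMC 4, orderOf_eq_prime h12 fun e => ?_, hm⟩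
  rw [e, T.toCtx.m_one] at hm
  exact g2r_not_pow 0 (by rw [← hm, pow_zero])

theorem perfect_M : commutator ↥T.M = ⊤ := by
  haveI : Fact (Nat.Prime 3) := ⟨Nat.prime_three⟩
  haveI : Fact (Nat.Prime 2) := ⟨Nat.prime_two⟩
  have hyM : T.y ∈ T.M := T.mem_M.mpr (Commute.refl _)
  have hmap : (commutator ↥T.M).map T.pr = ⊤ := by
    rw [_root_.commutator_def, Subgroup.map_commutator, Subgroup.map_top_of_surjective T.pr (QuotientGroup.mk'_surjective _)]
    exact T.commutator_b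
  by_cases hyD : (⟨T.y, hyM⟩ : ↥T.M) ∈ commutator ↥T.M
  · refine eq_top_iff.mpr fun x _ => ?_
    obtain ⟨d, hd, hde⟩ := (hmap ▸ mem_top (T.pr x) : T.pr x ∈ (commutator ↥T.M).map T.pr)
    obtain ⟨i, -, hi⟩ := T.pr_eq.mp hde
    rw [show x = d * ⟨T.y, hyM⟩ ^ i from Subtype.ext (by push_cast; exact hi)]
    exact mul_mem hd (pow_mem hyD i)
  exfalso
  have hker : ∀ d ∈ commutator ↥T.M, T.pr d = 1 → d = 1 := by
    intro d hd h1
    obtain ⟨i, hi, e⟩ := T.pr_eq.mp (h1.trans (map_one T.pr).symm).symm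
    push_cast at e
    rw [one_mul] at e
    interval_cases i
    · exact Subtype.ext (by rw [e]; exact pow_zero _)
    · exact absurd (by rw [show (⟨T.y, hyM⟩ : ↥T.M) = d from Subtype.ext (by rw [e, pow_one])]; exact hd) hyD
    · exact absurd (by
        rw [show (⟨T.y, hyM⟩ : ↥T.M) = d * d from Subtype.ext (by
          push_cast; rw [e, ← pow_add, show 2 + 2 = 3 + 1 by norm_num, pow_succ, ← T.y3, pow_orderOf_eq_one, one_mul])]
        exact mul_mem hd hd) hyD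
  obtain ⟨y2, hy2, o2, m2⟩ := T.exists_second
  obtain ⟨h2z, h2y⟩ := T.mem_MC.mp hy2
  have cube2 : y2 * y2 * y2 = 1 := by
    have := pow_orderOf_eq_one y2
    rwa [o2, pow_three, ← mul_assoc] at this
  have inv2 : y2⁻¹ = y2 * y2 := inv_eq_of_mul_eq_one_right (by rw [← mul_assoc, cube2])
  let Y2 : ↥T.M := ⟨y2, T.mem_M.mpr h2y⟩
  have hY2 : Y2 ∈ commutator ↥T.M := by
    obtain ⟨h, hh, he⟩ := exists_word1 [2, 0, 1, 0, 0, 1, 2, 2] (by decide)
    have hc : Commute h g0 := cd_ext fun x hx => by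
      have hw : wact g1 [2, 0, 1, 0, 0, 1, 2, 2] x < 64 := by rw [← he x hx]; exact cd_lt _ _
      rw [cd_mul, cd_mul, cd_g0 hx, he _ (rot_lt (by norm_num) (by norm_num) hx), he x hx, cd_g0 hw]
      exact (second_row hx).1
    obtain ⟨x, hxz, hxm, hxe⟩ := T.lift_to hh T.y3 T.yz (by rw [T.my, hc.eq, mul_inv_cancel_right])
    have hxMC : x ∈ T.MC := T.mem_MC.mpr ⟨hxz, mul_inv_eq_iff_eq_mul.mp hxe⟩
    have haMC : x * y2 * x⁻¹ ∈ T.MC := mul_mem (mul_mem hxMC hy2) (inv_mem hxMC)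
    have ham : T.toCtx.m (x * y2 * x⁻¹) = g2r⁻¹ := by
      rw [T.toCtx.m_mul (hxz.mul_left h2z) hxz.inv_left, T.toCtx.m_mul hxz h2z, T.toCtx.m_inv hxz, hxm, m2]
      refine mul_inv_eq_iff_eq_mul.mpr (cd_ext fun v hv => ?_)
      have hw : wact g1 [2, 0, 1, 0, 0, 1, 2, 2] v < 64 := by rw [← he v hv]; exact cd_lt _ _
      rw [cd_mul, cd_mul, cd_g2r hv, he _ (rot_lt (by norm_num) (by norm_num) hv), he v hv, g2r_inv hw]
      exact (second_row hv).2.1
    obtain ⟨haz, hay⟩ := T.mem_MC.mp haMC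
    have hmem : y2⁻¹ * (x * y2 * x⁻¹)⁻¹ ∈ T.Q0 := by
      refine T.mem_Q0.mpr ⟨?_, h2y.inv_left.mul_left hay.inv_left⟩
      rw [← T.toCtx.m_one_iff (h2z.inv_left.mul_left haz.inv_left), T.toCtx.m_mul h2z.inv_left haz.inv_left,
        T.toCtx.m_inv h2z, T.toCtx.m_inv haz, ham, m2, mul_inv_cancel]
    obtain ⟨n, hn, hne⟩ := exists_conj_mem (N := T.Q0) (a := x * y2 * x⁻¹) (T.isP_Q.to_le inf_le_left)
      (((MulAut.conj x).orderOf_eq y2).trans o2) (by rw [orderOf_inv, o2])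
      (mem_normalizer_iff.mpr fun q => ⟨T.MC_norm haMC, fun hq => by
        have := T.MC_norm (inv_mem haMC) hq
        rwa [show (x * y2 * x⁻¹)⁻¹ * (x * y2 * x⁻¹ * q * (x * y2 * x⁻¹)⁻¹) * (x * y2 * x⁻¹)⁻¹⁻¹ = q by group] at this⟩)
      hmem
    have hdM : n * x ∈ T.M := mul_mem (T.Q0_M hn) (T.mem_M.mpr (T.mem_MC.mp hxMC).2)
    have e : ⁅(⟨n * x, hdM⟩ : ↥T.M), Y2⁆ = Y2 := Subtype.ext (by
      show n * x * y2 * (n * x)⁻¹ * y2⁻¹ = y2
      rw [show n * x * y2 * (n * x)⁻¹ = n * (x * y2 * x⁻¹) * n⁻¹ by group, hne]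
      calc y2⁻¹ * y2⁻¹ = (y2 * y2)⁻¹ := (mul_inv_rev y2 y2).symm
        _ = y2 := by rw [← inv2, inv_inv])
    rw [← e]
    exact Subgroup.commutator_mem_commutator (mem_top _) (mem_top _)
  -- the commutator witness in the quotient
  obtain ⟨v, hv, hvp⟩ := List.any_eq_true.mp second_ok.2.2
  simp only [Bool.and_eq_true, beq_iff_eq, bne_iff_ne, ne_eq] at hvp
  obtain ⟨⟨hfix, -⟩, hqv⟩ := hvp
  have hv64 : v < 64 := F0_lt v hv
  rw [qT_eq hv64] at hqv
  obtain ⟨q, hqQ, hqπ⟩ := T.π_surj v hv64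
  have hq : q ∈ T.Q0 := (T.code_Q0 hqQ).mpr (hqπ.symm ▸ hv)
  have qq : q * q = z := by
    rcases T.X.sq q hqQ with e | e
    · exfalso
      have := (T.π_sq q hqQ).mp e
      rw [hqπ, hqv] at this
      exact absurd this (by decide)
    · exact e
  have hqy : Commute q y2 := by
    have he : T.π (y2 * q * y2⁻¹) = T.π q := by rw [T.toCtx.act h2z hqQ, m2, cd_g2r (T.π_lt q), hqπ, hfix]
    rcases T.toCtx.pi_eq (T.toCtx.norm h2z hqQ) hqQ he with e | e
    · exact (mul_inv_eq_iff_eq_mul.mp e).symm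
    · exfalso
      have e3 : ∀ w, y2 * (z * w) * y2⁻¹ = z * (y2 * w * y2⁻¹) := fun w => by
        rw [← mul_assoc y2 z w, h2z.eq]; group
      have key : y2 * (y2 * (y2 * q * y2⁻¹) * y2⁻¹) * y2⁻¹ = z * q := by
        rw [e, e3, e, e3, e3, e, ← mul_assoc z z, T.X.zz, one_mul]
      rw [show y2 * (y2 * (y2 * q * y2⁻¹) * y2⁻¹) * y2⁻¹ = (y2 * y2 * y2) * q * (y2 * y2 * y2)⁻¹ by group, cube2,
        one_mul, inv_one, mul_one] at key
      exact T.X.ne (mul_eq_right.mp key.symm)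
  obtain ⟨c⟩ := T.exists_ctx_b
  obtain ⟨S⟩ := Cfsg.Lib.UFourThreeType.exists_sys c
  have hYne : T.pr Y2 ≠ 1 := fun e => by
    obtain ⟨i, -, hi⟩ := T.pr_eq.mp (e.trans (map_one T.pr).symm).symm
    push_cast at hi
    rw [one_mul] at hi
    refine g2r_not_pow i ?_
    rw [← m2, show y2 = T.y ^ i from hi, T.m_pow T.yz, T.my]
  let Qe : ↥T.M := ⟨q, T.Q0_M hq⟩
  obtain ⟨a, b, ha, hb, hab⟩ := S.three_commutator (g := T.pr Y2) (q := T.pr Qe)
    (by rw [← map_mul, ← map_mul, show Y2 * Y2 * Y2 = 1 from Subtype.ext cube2, map_one]) hYne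
    (T.commute_zb.mpr h2z) (T.commute_zb.mpr (T.X.central q hqQ))
    (by rw [← map_mul]; exact congrArg T.pr (Subtype.ext qq))
    (by show T.pr Qe * T.pr Y2 = T.pr Y2 * T.pr Qe
        rw [← map_mul, ← map_mul]; exact congrArg T.pr (Subtype.ext hqy.eq))
  obtain ⟨A, hA, rfl⟩ := (hmap ▸ mem_top a : a ∈ (commutator ↥T.M).map T.pr)
  obtain ⟨B, hB, rfl⟩ := (hmap ▸ mem_top b : b ∈ (commutator ↥T.M).map T.pr)
  have lift_comm : ∀ X ∈ commutator ↥T.M, Commute (T.pr X) (T.pr Y2) → Commute (X : G) y2 := by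
    intro X hX hc
    have := hker ⁅X, Y2⁆ (mul_mem (mul_mem (mul_mem hX hY2) (inv_mem hX)) (inv_mem hY2))
      (by rw [map_commutatorElement]; exact commutatorElement_eq_one_iff_commute.mpr hc)
    exact congrArg Subtype.val (commutatorElement_eq_one_iff_commute.mp this).eq
  have cA := lift_comm A hA ha
  have cB := lift_comm B hB hb
  have hAB : A * B * A⁻¹ * B⁻¹ = Y2 := by
    refine mul_inv_eq_one.mp (hker _ (mul_mem (mul_mem (mul_mem (mul_mem hA hB) (inv_mem hA)) (inv_mem hB))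
      (inv_mem hY2)) ?_)
    rw [map_mul, map_mul, map_mul, map_mul, map_inv, map_inv, map_inv, hab, mul_inv_cancel]
  obtain ⟨h, hh, he⟩ := exists_word1 [1, 0, 2, 0] (by decide)
  obtain ⟨x, -, -, hxe⟩ := T.lift_to hh (e := y2⁻¹) (by rw [orderOf_inv, o2]) h2z.inv_left (by
    rw [T.toCtx.m_inv h2z, m2]
    refine mul_inv_eq_iff_eq_mul.mpr (cd_ext fun v hv => ?_)
    have hw : wact g1 [1, 0, 2, 0] v < 64 := by rw [← he v hv]; exact cd_lt _ _
    rw [cd_mul, cd_mul, cd_g0 hv, he _ (rot_lt (by norm_num) (by norm_num) hv), he v hv, g2r_inv hw]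
    exact (second_row hv).2.2.1)
  have hyinv : T.y⁻¹ = x⁻¹ * y2 * x := by
    rw [← inv_inv y2, ← hxe]; group
  have move : ∀ {w : G}, Commute w y2 → x⁻¹ * w * x ∈ T.M := fun {w} hw => by
    refine T.mem_M.mpr (Commute.inv_right_iff.mp ?_)
    rw [hyinv]
    have := (Commute.conj_iff x⁻¹).mpr hw
    rwa [inv_inv] at this
  refine hyD ?_
  rw [← inv_inv (⟨T.y, hyM⟩ : ↥T.M)]
  refine inv_mem ?_
  rw [show (⟨T.y, hyM⟩ : ↥T.M)⁻¹ = ⁅(⟨_, move cA⟩ : ↥T.M), (⟨_, move cB⟩ : ↥T.M)⁆ from Subtype.ext (by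
    show T.y⁻¹ = x⁻¹ * A * x * (x⁻¹ * B * x) * (x⁻¹ * A * x)⁻¹ * (x⁻¹ * B * x)⁻¹
    rw [hyinv, show y2 = ((A * B * A⁻¹ * B⁻¹ : ↥T.M) : G) by rw [hAB]]
    push_cast
    group)]
  exact Subgroup.commutator_mem_commutator (mem_top _) (mem_top _)

theorem center_M : center ↥T.M = T.Ym := by
  refine le_antisymm (fun x hx => ?_) fun x hx => ?_
  · have : T.pr x ∈ center T.Hb := mem_center_iff.mpr fun w => by
      obtain ⟨v, rfl⟩ : ∃ v, T.pr v = w := QuotientGroup.mk'_surjective _ w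
      rw [← map_mul, ← map_mul, mem_center_iff.mp hx v]
    rw [T.center_b, Subgroup.mem_bot] at this
    exact (QuotientGroup.eq_one_iff _).mp this
  · rw [mem_center_iff]
    intro v
    obtain ⟨i, hi⟩ := mem_zpowers_iff.mp (T.mem_Ym.mp hx)
    refine Subtype.ext ?_
    push_cast
    rw [← hi]
    exact ((T.mem_M.mp v.2).zpow_right i).eq

theorem quasisimple : Cfsg.IsQuasisimple ↥T.M := by
  refine ⟨⟨T.perfect_M⟩, ?_⟩
  haveI := T.simple_b
  exact (QuotientGroup.quotientMulEquivOfEq T.center_M).isSimpleGroup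

theorem relIndex_two : T.M.relIndex (normalizer (zpowers T.y : Set G)) = 2 := by
  obtain ⟨n, -, hne⟩ := T.exists_inverter
  have hN : ∀ g : G, g ∈ normalizer (zpowers T.y : Set G) → g * T.y * g⁻¹ = T.y ∨ g * T.y * g⁻¹ = T.y⁻¹ := by
    intro g hg
    classical
    obtain ⟨i, hi, e⟩ := Finset.mem_image.mp
      ((IsOfFinOrder.mem_zpowers_iff_mem_range_orderOf (isOfFinOrder_of_finite T.y)).mp
        ((mem_normalizer_iff.mp hg T.y).mp (mem_zpowers _)))
    rw [Finset.mem_range, T.y3] at hi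
    interval_cases i
    · exfalso
      rw [pow_zero] at e
      have := T.y3
      rw [conj_eq_one_iff.mp e.symm, orderOf_one] at this
      norm_num at this
    · exact Or.inl (by rw [← e, pow_one])
    · refine Or.inr ?_
      rw [← e]
      exact eq_inv_of_mul_eq_one_left (by
        rw [← pow_succ]
        have := pow_orderOf_eq_one T.y
        rwa [T.y3] at this)
  have hnN : n ∈ normalizer (zpowers T.y : Set G) := by
    rw [mem_normalizer_iff]
    intro w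
    constructor
    · rintro ⟨i, rfl⟩
      exact ⟨-i, by show T.y ^ (-i) = _; rw [← conj_zpow, hne, inv_zpow, zpow_neg]⟩
    · rintro ⟨i, hi⟩
      refine ⟨-i, mul_left_cancel (a := n) (mul_right_cancel (b := n⁻¹) ?_)⟩
      rw [← hi, ← conj_zpow, hne, inv_zpow, zpow_neg, inv_inv]
  have hyne : T.y⁻¹ ≠ T.y := fun e => by
    have h2 : T.y ^ 2 = 1 := by
      rw [pow_two]
      nth_rewrite 1 [← e]
      exact inv_mul_cancel _
    have := orderOf_dvd_of_pow_eq_one h2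
    rw [T.y3] at this
    norm_num at this
  have hM : ∀ g : G, g ∈ T.M ↔ g * T.y * g⁻¹ = T.y := fun g => by
    rw [T.mem_M]
    exact ⟨fun h => by rw [h.eq, mul_inv_cancel_right], fun h => mul_inv_eq_iff_eq_mul.mp h⟩
  have hbn : ∀ b : G, b * n * T.y * (b * n)⁻¹ = (b * T.y * b⁻¹)⁻¹ := fun b => by
    rw [show b * n * T.y * (b * n)⁻¹ = b * (n * T.y * n⁻¹) * b⁻¹ by group, hne]; group
  refine relIndex_eq_two_iff.mpr ⟨n, hnN, fun b hb => ?_⟩
  rcases hN b hb with e | e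
  · exact Or.inr ⟨(hM b).mpr e, fun h => hyne (by
      have h' := (hM _).mp h
      rw [hbn, e] at h'
      exact h')⟩
  · exact Or.inl ⟨(hM _).mpr (by rw [hbn, e, inv_inv]), fun h => hyne (e.symm.trans ((hM b).mp h))⟩

end Three

end Cfsg.Lib.SuzukiType.ThreeU43
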