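import Cfsg.Agent.SuzukiType.ThreeU43.Code

/-!
Rotations of anisotropic lines as elements of the commutator subgroup of the isometry group: one class of 240
members, and the centralizer of the standard one.
-/

set_option autoImplicit false
set_option maxRecDepth 100000
set_option maxHeartbeats 1000000
set_option linter.unusedSectionVars false

namespace Cfsg.Lib.SuzukiType.ThreeU43

open Subgroup Cfsg.Lib.SuzukiType.Code Cfsg.Lib.SuzukiType.ThreeU43.Code
open Cfsg.Lib.Classical.OrthH1 (lN pN sN)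

theorem nondeg_ok : ((List.range 64).all fun d => d == 0 || [1, 2, 4, 8, 16, 32].any fun x => pB d x) = true := by
  decide +kernel

theorem nondeg6 {d : ℕ} (hd : d < 64) (h : ∀ x < 64, pB d x = false) : d = 0 := by
  have h0 := List.all_eq_true.mp nondeg_ok d (List.mem_range.mpr hd)
  rw [Bool.or_eq_true, beq_iff_eq, List.any_eq_true] at h0
  rcases h0 with h0 | ⟨x, hx, hpx⟩
  · exact h0
  · rw [h x (by simp at hx; omega)] at hpx
    exact absurd hpx Bool.false_ne_true

/-- The polar form in bits. -/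
def bits (a c : ℕ) : Bool :=
  (a.testBit 0 && c.testBit 2) ^^ (a.testBit 2 && c.testBit 0) ^^ (a.testBit 1 && c.testBit 3) ^^
    (a.testBit 3 && c.testBit 1) ^^ (a.testBit 4 && c.testBit 5) ^^ (a.testBit 5 && c.testBit 4)

theorem bits_ok : ((List.range 64).all fun a => (List.range 64).all fun c => pB a c == bits a c) = true := by
  decide +kernel

theorem pB_bits {a c : ℕ} (ha : a < 64) (hc : c < 64) : pB a c = bits a c :=
  beq_iff_eq.mp (List.all_eq_true.mp (List.all_eq_true.mp bits_ok a (List.mem_range.mpr ha)) c (List.mem_range.mpr hc))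

theorem pB_add (a : ℕ) (ha : a < 64) (b : ℕ) (hb : b < 64) (c : ℕ) (hc : c < 64) :
    pB (a ^^^ b) c = (pB a c ^^ pB b c) := by
  rw [pB_bits (Nat.xor_lt_two_pow ha hb : _ < 2 ^ 6) hc, pB_bits ha hc, pB_bits hb hc]
  simp only [bits, Nat.testBit_xor, Bool.and_xor_distrib_right]
  simp only [Bool.xor_assoc, Bool.xor_comm, Bool.xor_left_comm]

theorem pB_symm : ∀ a < 64, ∀ b < 64, pB a b = pB b a := by decide +kernel

theorem pB_alt : ∀ a < 64, pB a a = false ∧ pB 0 a = false := by decide +kernel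

theorem cube_maps : ∀ i j k l : Bool,
    (∀ f : Bool → Bool → Bool × Bool, f = (fun x y => (((x && i) ^^ (y && k)), ((x && j) ^^ (y && l)))) →
      f (f (f true false).1 (f true false).2).1 (f (f true false).1 (f true false).2).2 = (true, false) →
      f (f (f false true).1 (f false true).2).1 (f (f false true).1 (f false true).2).2 = (false, true) →
      ((i, j, k, l) = (true, false, false, true) ∨ (i, j, k, l) = (false, true, true, true) ∨
        (i, j, k, l) = (true, true, true, false))) := by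
  intro i j k l f hf
  subst hf
  revert i j k l
  decide

/-- Conjugation carries reflections to reflections. -/
theorem cd_rf (h : O6) {u x : ℕ} (hu : u < 64) (hx : x < 64) : cd h (rf u x) = rf (cd h u) (cd h x) := by
  unfold rf
  rw [cd_p h hu hx]
  cases pB u x
  · simp
  · simp [cd_xor]

theorem rot_lt {a b x : ℕ} (ha : a < 64) (hb : b < 64) (hx : x < 64) : rot a b x < 64 := by
  have key : ∀ {u y : ℕ}, u < 64 → y < 64 → rf u y < 64 := fun {u y} hu hy => by
    unfold rf; split <;> [exact (Nat.xor_lt_two_pow hy hu : _ < 2 ^ 6); exact hy]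
  exact key ha (key hb hx)

theorem cd_rot (h : O6) {a b x : ℕ} (ha : a < 64) (hb : b < 64) (hx : x < 64) :
    cd h (rot a b x) = rot (cd h a) (cd h b) (cd h x) := by
  have key : ∀ {u y : ℕ}, u < 64 → y < 64 → rf u y < 64 := fun {u y} hu hy => by
    unfold rf; split <;> [exact (Nat.xor_lt_two_pow hy hu : _ < 2 ^ 6); exact hy]
  rw [rot, rot, cd_rf h ha (key hb hx), cd_rf h hb hx]

/-- Elements equal on a basis are equal. -/
theorem ext6 {g h : O6} (e : ∀ x ∈ [1, 2, 4, 8, 16, 32], cd g x = cd h x) : g = h := by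
  refine cd_ext fun x hx => ?_
  have hsplit : ∀ x < 64, x = (bif x.testBit 0 then 1 else 0) ^^^ (bif x.testBit 1 then 2 else 0) ^^^
      (bif x.testBit 2 then 4 else 0) ^^^ (bif x.testBit 3 then 8 else 0) ^^^ (bif x.testBit 4 then 16 else 0) ^^^
      (bif x.testBit 5 then 32 else 0) := by decide +kernel
  rw [hsplit x hx]
  simp only [cd_xor, cd_bif, e 1 (by simp), e 2 (by simp), e 4 (by simp), e 8 (by simp), e 16 (by simp),
    e 32 (by simp)]

theorem key_eq {g : O6} {a b : ℕ} (ha : a < 64) (hb : b < 64) (he : ∀ x < 64, cd g x = rot a b x) {c d : ℕ}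
    (hc : c < 64) (hd : d < 64) (hk : key a b = key c d) : ∀ x ∈ [1, 2, 4, 8, 16, 32], cd g x = rot c d x := by
  intro x hx
  have l : ∀ {p q y : ℕ}, p < 64 → q < 64 → y < 64 → rot p q y < 64 := rot_lt
  simp only [key, List.foldl_cons, List.foldl_nil, Nat.zero_mul, Nat.zero_add] at hk
  have := l ha hb (show 1 < 64 by norm_num); have := l ha hb (show 2 < 64 by norm_num)
  have := l ha hb (show 4 < 64 by norm_num); have := l ha hb (show 8 < 64 by norm_num)
  have := l ha hb (show 16 < 64 by norm_num); have := l ha hb (show 32 < 64 by norm_num)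
  have := l hc hd (show 1 < 64 by norm_num); have := l hc hd (show 2 < 64 by norm_num)
  have := l hc hd (show 4 < 64 by norm_num); have := l hc hd (show 8 < 64 by norm_num)
  have := l hc hd (show 16 < 64 by norm_num); have := l hc hd (show 32 < 64 by norm_num)
  simp only [List.mem_cons, List.not_mem_nil, or_false] at hx
  rcases hx with rfl | rfl | rfl | rfl | rfl | rfl <;> rw [he _ (by norm_num)] <;> omega

/-- Rotations are isometries. -/
theorem exists_rot {a b : ℕ} (ha : a < 64) (hb : b < 64) (qa : qB a = true) (qb : qB b = true) :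
    ∃ e : O6, ∀ y < 64, rot a b y = cd e y := by
  have ht : ((a, b) : ℕ × ℕ).1 < 64 ∧ ((a, b) : ℕ × ℕ).2 < 64 ∧ qB ((a, b) : ℕ × ℕ).1 = true ∧
      qB ((a, b) : ℕ × ℕ).2 = true := ⟨ha, hb, qa, qb⟩
  refine ⟨pel (a, b) ht, fun y hy => ?_⟩
  rw [cd_pel (a, b) ht hy]
  rfl

/-- The standard rotation. -/
noncomputable def g0 : O6 := pel (10, 18) (by decide +kernel)

theorem cd_g0 {x : ℕ} (hx : x < 64) : cd g0 x = r0 x := cd_pel _ _ hx

theorem g0_mem : g0 ∈ Om := pel_mem _ _ (by decide +kernel)

theorem g0_cube : g0 * g0 * g0 = 1 := cd_ext fun x hx => by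
  have h : ∀ x < 64, r0 (r0 (r0 x)) = x ∧ r0 x < 64 ∧ r0 (r0 x) < 64 := by decide +kernel
  obtain ⟨h1, h2, h3⟩ := h x hx
  rw [cd_mul, cd_mul, cd_g0 hx, cd_g0 h2, cd_g0 h3, h1, cd_one hx]

theorem g0_ne : g0 ≠ 1 := fun e => by
  have := cd_g0 (x := 10) (by norm_num)
  rw [e, cd_one (by norm_num)] at this
  exact absurd this (by decide)

/-- A combination of two vectors. -/
def comb (u v : ℕ) (i j : Bool) : ℕ := (bif i then u else 0) ^^^ (bif j then v else 0)

theorem comb_xor (u v : ℕ) : ∀ i j k l : Bool, comb u v i j ^^^ comb u v k l = comb u v (i ^^ k) (j ^^ l) := by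
  intro i j k l
  cases i <;> cases j <;> cases k <;> cases l <;>
    simp [comb, Nat.xor_comm v u, Nat.xor_assoc, Nat.xor_left_comm v u]

theorem comb_inj {u v : ℕ} (hu : u < 64) (hv : v < 64) (huv : pB u v = true) {i j k l : Bool}
    (h : comb u v i j = comb u v k l) : i = k ∧ j = l := by
  have key : ∀ {i j : Bool}, comb u v i j = 0 → i = false ∧ j = false := by
    intro i j h
    have h1 := (pB_alt u hu).1; have h2 := (pB_alt v hv).1
    have h3 := (pB_alt u hu).2; have h4 := (pB_alt v hv).2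
    cases i <;> cases j <;> simp [comb] at h ⊢
    · rw [h, pB_symm u hu 0 (by norm_num), h3] at huv; exact absurd huv Bool.false_ne_true
    · rw [h, h4] at huv; exact absurd huv Bool.false_ne_true
    · rw [h, h2] at huv; exact absurd huv Bool.false_ne_true
  have h0 : comb u v (i ^^ k) (j ^^ l) = 0 := by rw [← comb_xor, h, Nat.xor_self]
  obtain ⟨e1, e2⟩ := key h0
  exact ⟨by revert e1; cases i <;> cases k <;> decide, by revert e2; cases j <;> cases l <;> decide⟩

/-- An element of order three moving vectors only along a line is a conjugate of the standard rotation. -/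
theorem exists_conj {g : O6} (h3 : g * g * g = 1) (h1 : g ≠ 1) {u v : ℕ} (hu : u < 64) (hv : v < 64)
    (huv : pB u v = true) (him : ∀ x < 64, ∃ i j : Bool, cd g x ^^^ x = comb u v i j) :
    ∃ h ∈ Om, h * g0 * h⁻¹ = g := by
  have hxx : ∀ {a b : ℕ}, a < 64 → b < 64 → a ^^^ b < 64 := fun {a b} ha hb => (Nat.xor_lt_two_pow ha hb : _ < 2 ^ 6)
  have hb : ∀ {b : Bool} {w : ℕ}, w < 64 → (bif b then w else 0) < 64 := fun {b w} hw => by cases b <;> simp [hw]
  have hcl : ∀ i j, comb u v i j < 64 := fun i j => hxx (hb hu) (hb hv)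
  have hperp : ∀ x < 64, pB u x = false → pB v x = false → cd g x = x := by
    intro x hx p1 p2
    refine xor_eq_zero'.mp (nondeg6 (hxx (cd_lt g x) hx) fun c hc => ?_)
    rw [← cd_inv' g hc]
    set c' := cd g⁻¹ c with hc'
    have hc64 : c' < 64 := cd_lt _ _
    obtain ⟨i, j, hij⟩ := him c' hc64
    have h0 : pB x (cd g c' ^^^ c') = false := by
      rw [hij, pB_symm x hx _ (hcl i j), comb, pB_add _ (hb hu) _ (hb hv) x hx]
      cases i <;> cases j <;> simp [p1, p2, (pB_alt x hx).2]
    rw [pB_symm x hx _ (hxx (cd_lt g c') hc64), pB_add _ (cd_lt g c') _ hc64 x hx, pB_symm _ (cd_lt g c') x hx,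
      pB_symm c' hc64 x hx] at h0
    rw [pB_add _ (cd_lt g x) x hx _ (cd_lt g c'), cd_p g hx hc64]
    revert h0
    cases pB x (cd g c') <;> cases pB x c' <;> decide
  have hdec : ∀ x < 64, ∃ f < 64, ∃ i j : Bool, x = f ^^^ comb u v i j ∧ pB u f = false ∧ pB v f = false := by
    intro x hx
    have hc := hcl (pB x v) (pB x u)
    refine ⟨x ^^^ comb u v (pB x v) (pB x u), hxx hx hc, pB x v, pB x u, by rw [Nat.xor_xor_cancel_right], ?_, ?_⟩ <;>
      rw [pB_symm _ (by assumption) _ (hxx hx hc), pB_add _ hx _ hc _ (by assumption), comb,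
        pB_add _ (hb hu) _ (hb hv) _ (by assumption)] <;>
      cases h1 : pB x u <;> cases h2 : pB x v <;>
      simp [huv, pB_symm v hv u hu, (pB_alt u hu).1, (pB_alt u hu).2, (pB_alt v hv).1, (pB_alt v hv).2, h1, h2]
  obtain ⟨i0, j0, e0⟩ := him u hu
  obtain ⟨k0, l0, f0⟩ := him v hv
  have eu : cd g u = comb u v (!i0) j0 := by
    have : cd g u = comb u v i0 j0 ^^^ comb u v true false := by rw [← e0]; simp [comb]
    rw [this, comb_xor]; simp
  have ev : cd g v = comb u v k0 (!l0) := by
    have : cd g v = comb u v k0 l0 ^^^ comb u v false true := by rw [← f0]; simp [comb]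
    rw [this, comb_xor]; simp
  set i := !i0; set l := !l0
  let f : Bool → Bool → Bool × Bool := fun x y => (((x && i) ^^ (y && k0)), ((x && j0) ^^ (y && l)))
  have act : ∀ x y, cd g (comb u v x y) = comb u v (f x y).1 (f x y).2 := fun x y => by
    rw [comb, cd_xor, cd_bif, cd_bif, eu, ev]
    cases x <;> cases y <;> simp [f, comb_xor] <;> simp [comb]
  have c3 : ∀ x y, f (f (f x y).1 (f x y).2).1 (f (f x y).1 (f x y).2).2 = (x, y) := fun x y => by
    have h33 : cd g (cd g (cd g (comb u v x y))) = comb u v x y := by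
      rw [← cd_mul, ← cd_mul, h3, cd_one (hcl x y)]
    rw [act, act, act] at h33
    obtain ⟨a, b⟩ := comb_inj hu hv huv h33
    exact Prod.ext a b
  have hcases := cube_maps i j0 k0 l f rfl (c3 true false) (c3 false true)
  have mk : ∀ a b, a < 64 → b < 64 → pB a b = true → cd g a = b → cd g b = a ^^^ b →
      (∀ x < 64, pB u x = false → pB v x = false → pB a x = false ∧ pB b x = false) →
      (∀ i j : Bool, ∃ p q : Bool, comb u v i j = comb a b p q) →
      qB a = true ∧ qB b = true ∧ ∀ x < 64, cd g x = rot a b x := by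
    intro a b ha hb' pab e1 e2 hp hij
    have qab : qB b = qB a ∧ qB (a ^^^ b) = qB a := by
      refine ⟨by rw [← e1, cd_q g ha], ?_⟩
      rw [← e2, cd_q g hb', ← e1, cd_q g ha]
    have qa : qB a = true := by
      have h : pB a b = (qB (a ^^^ b) ^^ qB a ^^ qB b) := rfl
      rw [pab, qab.2, qab.1] at h
      revert h; cases qB a <;> decide
    have qb : qB b = true := qab.1.trans qa
    refine ⟨qa, qb, fun x hx => ?_⟩
    obtain ⟨f, hf, i, j, rfl, p1, p2⟩ := hdec x hx
    obtain ⟨p, q, hpq⟩ := hij i j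
    obtain ⟨pa, pb⟩ := hp f hf p1 p2
    obtain ⟨pe, hg⟩ := exists_rot ha hb' qa qb
    have paa := (pB_alt a ha).1; have pbb := (pB_alt b hb').1
    have pba : pB b a = true := by rw [pB_symm b hb' a ha, pab]
    have paab : pB a (a ^^^ b) = true := by
      rw [pB_symm a ha _ (hxx ha hb'), pB_add a ha b hb' a ha, paa, pba]; rfl
    have ra : rot a b a = b := by
      simp only [rot, rf, pba, if_true, paab]
      rw [Nat.xor_comm a b, Nat.xor_xor_cancel_right]
    have rb : rot a b b = a ^^^ b := by simp [rot, rf, pbb, pab, Nat.xor_comm]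
    have rff : rot a b f = f := by simp [rot, rf, pa, pb]
    rw [hpq, comb, hg _ (hxx hf (hxx (hb ha) (hb hb'))), cd_xor, cd_xor, cd_xor, cd_xor, cd_bif, cd_bif, cd_bif,
      cd_bif, ← hg f hf, ← hg a ha, ← hg b hb', ra, rb, rff, e1, e2, hperp f hf p1 p2]
  obtain ⟨a, ha, b, hb', pab, qa, qb, hg⟩ : ∃ a < 64, ∃ b < 64, pB a b = true ∧ qB a = true ∧ qB b = true ∧
      ∀ x < 64, cd g x = rot a b x := by
    rcases hcases with h | h | h <;> simp only [Prod.mk.injEq] at h <;> obtain ⟨hi, hj, hk, hl⟩ := h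
    · refine absurd (cd_ext fun x hx => ?_) h1
      obtain ⟨w, hw, i', j', rfl, p1, p2⟩ := hdec x hx
      rw [cd_xor, act, hperp w hw p1 p2, cd_one hx]
      simp [f, hi, hj, hk, hl]
    · exact ⟨u, hu, v, hv, huv, mk u v hu hv huv (by rw [eu, hi, hj]; simp [comb]) (by rw [ev, hk, hl]; simp [comb])
        (fun x _ p q => ⟨p, q⟩) fun i j => ⟨i, j, rfl⟩⟩
    · have pvu : pB v u = true := by rw [pB_symm v hv u hu, huv]
      exact ⟨v, hv, u, hu, pvu, mk v u hv hu pvu (by rw [ev, hk, hl]; simp [comb])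
        (by rw [eu, hi, hj]; simp [comb, Nat.xor_comm]) (fun x _ p q => ⟨q, p⟩)
        fun i j => ⟨j, i, Nat.xor_comm _ _⟩⟩
  have hk := List.all_eq_true.mp class_all a (List.mem_range.mpr ha)
  simp only [qT_eq ha, qa, Bool.not_true, Bool.false_or] at hk
  have hk' := List.all_eq_true.mp hk b (List.mem_range.mpr hb')
  simp only [qT_eq hb', qb, pT_eq ha hb', pab, Bool.not_true, Bool.false_or, List.contains_iff_mem, List.mem_map] at hk'
  obtain ⟨w, hw, hwk⟩ := hk'
  obtain ⟨h, hh, he⟩ := exists_word1 w fun i hi => decide_eq_true_eq.mp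
    (List.all_eq_true.mp (List.all_eq_true.mp class_len.2.2 w hw) i hi)
  refine ⟨h, hh, ext6 fun x hx => ?_⟩
  have hx64 : x < 64 := by simp at hx; omega
  have l10 : (10 : ℕ) < 64 := by norm_num
  have l18 : (18 : ℕ) < 64 := by norm_num
  rw [cd_mul, cd_mul, cd_g0 (cd_lt _ _), cd_rot h l10 l18 (cd_lt _ _), cd_inv' h hx64, he 10 l10, he 18 l18]
  exact ((key_eq ha hb' hg (by rw [← he 10 l10]; exact cd_lt _ _) (by rw [← he 18 l18]; exact cd_lt _ _) hwk.symm)
    x hx).symm

end Cfsg.Lib.SuzukiType.ThreeU43
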