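import Cfsg.Agent.SuzukiType.Pair
import Cfsg.Agent.SuzukiType.ThreeU43.Rotation
import Cfsg.Agent.Coprime.SchurZassenhaus

/-!
Coordinates adapted to an element of order three with a quaternion commutator with the extraspecial group.
-/

set_option autoImplicit false
set_option maxRecDepth 100000
set_option maxHeartbeats 1000000
set_option linter.unusedSectionVars false
set_option linter.style.haveILetI false

namespace Cfsg.Lib.SuzukiType.ThreeU43

open Subgroup Cfsg.Lib.SuzukiType.Code Cfsg.Lib.SuzukiType.ThreeU43.Code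
open Cfsg.Lib.LargeExtra (X2 mem_map_conj)
open scoped commutatorElement

universe u

variable {G : Type u} [Group G] [Finite G] {z : G}

/-- Coprime conjugacy for elements of order three. -/
theorem exists_conj_mem {N : Subgroup G} (hN : IsPGroup 2 N) {a b : G} (ha : orderOf a = 3) (hb : orderOf b = 3)
    (hn : a ∈ normalizer (N : Set G)) (hab : b * a⁻¹ ∈ N) : ∃ n ∈ N, n * a * n⁻¹ = b := by
  haveI : Fact (Nat.Prime 2) := ⟨Nat.prime_two⟩
  obtain ⟨i, hi⟩ := hN.exists_card_eq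
  have hcop : (Nat.card N).Coprime (Nat.card (zpowers a)) := by
    rw [hi, Nat.card_zpowers, ha]; exact Nat.Coprime.pow_left i (by norm_num)
  have hK : zpowers b ≤ N ⊔ zpowers a := zpowers_le.mpr (by
    rw [show b = b * a⁻¹ * a by group]
    exact mul_mem (mem_sup_left hab) (mem_sup_right (mem_zpowers a)))
  obtain ⟨n, hnN, hne⟩ := Cfsg.Lib.Coprime.exists_conj_eq_of_coprime (zpowers_le.mpr hn) hcop
    (Or.inr inferInstance) hK (by rw [Nat.card_zpowers, Nat.card_zpowers, ha, hb])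
  refine ⟨n, hnN, ?_⟩
  have hm : n * a * n⁻¹ ∈ zpowers b := hne ▸ ⟨a, mem_zpowers a, rfl⟩
  have hb3 : b ^ 3 = 1 := hb ▸ pow_orderOf_eq_one b
  have hd : n * a * n⁻¹ * a⁻¹ ∈ N := by
    rw [show n * a * n⁻¹ * a⁻¹ = n * (a * n⁻¹ * a⁻¹) by group]
    exact mul_mem hnN ((mem_normalizer_iff.mp hn n⁻¹).mp (inv_mem hnN))
  have h1 : (n * a * n⁻¹) * b⁻¹ ∈ N := by
    have := mul_mem hd (inv_mem hab)
    rwa [show n * a * n⁻¹ * a⁻¹ * (b * a⁻¹)⁻¹ = n * a * n⁻¹ * b⁻¹ by group] at this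
  have h2 : (n * a * n⁻¹) * b⁻¹ ∈ zpowers b := mul_mem hm (inv_mem (mem_zpowers b))
  have hbot : N ⊓ zpowers b = ⊥ := Subgroup.inf_eq_bot_of_coprime (by
    rw [hi, Nat.card_zpowers, hb]; exact Nat.Coprime.pow_left i (by norm_num))
  exact mul_inv_eq_one.mp (Subgroup.mem_bot.mp (hbot ▸ ⟨h1, h2⟩))

/-- Coordinates adapted to an element of order three. -/
structure Three (z : G) extends Pt z where
  y : G
  y3 : orderOf y = 3
  yz : Commute y z
  ys : Commute y s
  my : toCtx.m y = g0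

/-- Coordinates for an element of order three with a quaternion commutator. -/
theorem exists_three (c0 : Ctx z) {y : G} (hy : orderOf y = 3) (hyz : Commute y z)
    (h8 : Nat.card ↥⁅c0.Q, zpowers y⁆ = 8)
    (hna : ¬ ∀ a ∈ ⁅c0.Q, zpowers y⁆, ∀ b ∈ ⁅c0.Q, zpowers y⁆, Commute a b) :
    ∃ t : Three z, t.y = y ∧ t.Q = c0.Q := by
  classical
  set R := ⁅c0.Q, zpowers y⁆ with hR
  have hyC : ∀ w ∈ zpowers y, Commute w z := fun w hw => by
    obtain ⟨k, rfl⟩ := mem_zpowers_iff.mp hw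
    exact hyz.zpow_left k
  have hRQ : R ≤ c0.Q := by
    rw [hR, Subgroup.commutator_le]
    intro q hq w hw
    rw [commutatorElement_def, show q * w * q⁻¹ * w⁻¹ = q * (w * q⁻¹ * w⁻¹) by group]
    exact mul_mem hq (c0.norm (hyC w hw) (inv_mem hq))
  push Not at hna
  obtain ⟨a, ha, b, hb, hab⟩ := hna
  have hzR : z ∈ R := by
    rcases c0.X.comm a (hRQ ha) b (hRQ hb) with e | e
    · exact absurd (commutatorElement_eq_one_iff_commute.mp e) hab
    · rw [← e, commutatorElement_def]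
      exact mul_mem (mul_mem (mul_mem ha hb) (inv_mem ha)) (inv_mem hb)
  have huv : pB (c0.π a) (c0.π b) = true := by
    by_contra hf
    exact hab ((c0.π_comm a (hRQ ha) b (hRQ hb)).mpr (by simpa using hf))
  set g := c0.m y with hg
  have hy3' : y * y * y = 1 := by
    have := pow_orderOf_eq_one y
    rwa [hy, pow_three, ← mul_assoc] at this
  have h3 : g * g * g = 1 := by
    rw [hg, ← c0.m_mul hyz hyz, ← c0.m_mul (hyz.mul_left hyz) hyz, hy3', c0.m_one]
  have h1 : g ≠ 1 := fun e => by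
    haveI : Fact (Nat.Prime 2) := ⟨Nat.prime_two⟩
    obtain ⟨k, hk⟩ := c0.X.isP ⟨y, (c0.m_one_iff hyz).mp e⟩
    have := orderOf_dvd_of_pow_eq_one (congrArg Subtype.val hk : y ^ 2 ^ k = 1)
    rw [hy] at this
    have := Nat.Prime.dvd_of_dvd_pow Nat.prime_three this
    norm_num at this
  let e : Bool × Bool × Bool → R := fun t =>
    ⟨(bif t.1 then z else 1) * (bif t.2.1 then a else 1) * (bif t.2.2 then b else 1), by
      refine mul_mem (mul_mem ?_ ?_) ?_ <;> cases t.1 <;> cases t.2.1 <;> cases t.2.2 <;>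
        simp [hzR, ha, hb, one_mem]⟩
  have hπe : ∀ t, c0.π (e t : G) = comb (c0.π a) (c0.π b) t.2.1 t.2.2 := fun ⟨i, j, k⟩ => by
    have hz' : (bif i then z else 1) ∈ c0.Q := by cases i <;> simp [c0.X.mem, one_mem]
    have ha' : (bif j then a else 1) ∈ c0.Q := by cases j <;> simp [hRQ ha, one_mem]
    have hb' : (bif k then b else 1) ∈ c0.Q := by cases k <;> simp [hRQ hb, one_mem]
    show c0.π (_ * _ * _) = _
    rw [c0.π_mul _ (mul_mem hz' ha') _ hb', c0.π_mul _ hz' _ ha']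
    cases i <;> cases j <;> cases k <;> simp [comb, c0.pi_one, c0.pi_z]
  have hei : Function.Injective e := fun s t h => by
    have h' := congrArg (fun r : R => c0.π (r : G)) h
    simp only [hπe] at h'
    obtain ⟨e1, e2⟩ := comb_inj (c0.π_lt a) (c0.π_lt b) huv h'
    obtain ⟨i, j, k⟩ := s; obtain ⟨i', j', k'⟩ := t
    simp only at e1 e2; subst e1 e2
    have hv := congrArg Subtype.val h
    simp only [e, mul_left_inj] at hv
    have : i = i' := by
      cases i <;> cases i' <;> first | rfl | (exact absurd hv.symm c0.X.ne) | (exact absurd hv c0.X.ne)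
    rw [this]
  have hsur : Function.Surjective e :=
    ((Nat.bijective_iff_injective_and_card e).2 ⟨hei, by rw [h8]; simp⟩).2
  have him : ∀ x < 64, ∃ i j : Bool, cd g x ^^^ x = comb (c0.π a) (c0.π b) i j := by
    intro x hx
    obtain ⟨q, hq, rfl⟩ := c0.π_surj x hx
    obtain ⟨t, ht⟩ := hsur ⟨⁅q, y⁆, Subgroup.commutator_mem_commutator hq (mem_zpowers y)⟩
    refine ⟨t.2.1, t.2.2, ?_⟩
    rw [← hπe, ht]
    show cd g (c0.π q) ^^^ c0.π q = c0.π ⁅q, y⁆
    rw [commutatorElement_def, show q * y * q⁻¹ * y⁻¹ = q * (y * q⁻¹ * y⁻¹) by group,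
      c0.π_mul _ hq _ (c0.norm hyz (inv_mem hq)), c0.act hyz (inv_mem hq), c0.pi_inv hq, Nat.xor_comm]
  obtain ⟨h, hh, hconj⟩ := exists_conj h3 h1 (c0.π_lt a) (c0.π_lt b) huv him
  let μ' : ↥(centralizer ({z} : Set G)) →* O6 := (MulAut.conj h⁻¹).toMonoidHom.comp c0.μ
  have hμ' : ∀ c, μ' c = h⁻¹ * c0.μ c * h := fun c => by simp [μ']
  let c : Ctx z :=
  { c0 with
    μ := μ'
    ker := fun x => by
      rw [hμ', ← c0.ker x]
      constructor
      · intro e
        calc c0.μ x = h * (h⁻¹ * c0.μ x * h) * h⁻¹ := by group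
          _ = 1 := by rw [e]; group
      · intro e; rw [e]; group
    rng := by
      refine le_antisymm ?_ fun g' hg' => ?_
      · rintro _ ⟨x, rfl⟩
        rw [hμ']
        exact mul_mem (mul_mem (inv_mem hh) (c0.rng ▸ ⟨x, rfl⟩)) hh
      · obtain ⟨x, hx⟩ : h * g' * h⁻¹ ∈ c0.μ.range := c0.rng ▸ mul_mem (mul_mem hh hg') (inv_mem hh)
        exact ⟨x, by rw [hμ', hx]; group⟩
    π := fun q => cd h⁻¹ (c0.π q)
    π_lt := fun q => cd_lt _ _
    π_mul := fun a ha b hb => by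
      show cd h⁻¹ _ = _
      rw [c0.π_mul a ha b hb, cd_xor]
    π_surj := fun x hx => by
      obtain ⟨q, hq, e⟩ := c0.π_surj (cd h x) (cd_lt _ _)
      exact ⟨q, hq, by show cd h⁻¹ _ = _; rw [e, cd_inv h hx]⟩
    π_zero := fun q hq => by
      show cd h⁻¹ _ = 0 ↔ _
      rw [← c0.π_zero q hq]
      refine ⟨fun e => ?_, fun e => by rw [e, cd_zero]⟩
      rw [← cd_inv' h (c0.π_lt q), e, cd_zero]
    π_sq := fun q hq => by
      show _ ↔ qB (cd h⁻¹ _) = false
      rw [cd_q _ (c0.π_lt q)]; exact c0.π_sq q hq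
    π_comm := fun a ha b hb => by
      show _ ↔ pB (cd h⁻¹ _) (cd h⁻¹ _) = false
      rw [cd_p _ (c0.π_lt a) (c0.π_lt b)]; exact c0.π_comm a ha b hb
    π_act := fun x q hq => by
      show cd h⁻¹ _ = cd (μ' x) (cd h⁻¹ _)
      rw [c0.π_act x q hq, hμ', ← cd_mul, ← cd_mul]
      congr 1
      group }
  have hcm : c.m y = g0 := by
    have e1 : c.m y = μ' ⟨y, mem_centralizer_singleton_iff.mpr hyz⟩ := by
      rw [Ctx.m, dif_pos (mem_centralizer_singleton_iff.mpr hyz)]
    have e2 : g = c0.μ ⟨y, mem_centralizer_singleton_iff.mpr hyz⟩ := by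
      rw [hg, Ctx.m, dif_pos (mem_centralizer_singleton_iff.mpr hyz)]
    rw [e1, hμ', ← e2, ← hconj]; group
  obtain ⟨p, hp⟩ := c.exists_pt_ctx
  have hpy : p.toCtx.m y = g0 := by rw [hp]; exact hcm
  have hpQ : p.toCtx.Q = c0.Q := by rw [hp]
  have hys : Commute y p.s := by
    have hs' := p.toCtx.norm hyz p.hs
    have e : p.π (y * p.s * y⁻¹) = p.π p.s := by
      rw [p.toCtx.act hyz p.hs, hpy, p.πs, cd_g0 (by norm_num)]; decide +kernel
    rcases p.toCtx.pi_eq hs' p.hs e with e' | e'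
    · exact mul_inv_eq_iff_eq_mul.mp e'
    · exfalso
      have key : y * (y * (y * p.s * y⁻¹) * y⁻¹) * y⁻¹ = z * p.s := by
        have e3 : ∀ w, y * (z * w) * y⁻¹ = z * (y * w * y⁻¹) := fun w => by
          rw [← mul_assoc y z w, hyz.eq]; group
        rw [e', e3, e', e3, e3, e', ← mul_assoc z z, p.X.zz, one_mul]
      rw [show y * (y * (y * p.s * y⁻¹) * y⁻¹) * y⁻¹ = (y * y * y) * p.s * (y * y * y)⁻¹ by group, hy3', one_mul,
        inv_one, mul_one] at key
      exact p.X.ne (mul_eq_right.mp key.symm)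
  exact ⟨{ toPt := p, y := y, y3 := hy, yz := hyz, ys := hys, my := hpy }, rfl, hpQ⟩

end Cfsg.Lib.SuzukiType.ThreeU43
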