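import Cfsg.Agent.SuzukiType.ThreeU43.Normal

/-!
The centralizer of the adapted element of order three in the involution centralizer, and the fusion inside it.
-/

set_option autoImplicit false
set_option maxRecDepth 100000
set_option maxHeartbeats 1000000
set_option linter.unusedSectionVars false
set_option linter.style.haveILetI false

namespace Cfsg.Lib.SuzukiType.ThreeU43

open Subgroup Cfsg.Lib.SuzukiType.Code Cfsg.Lib.SuzukiType.ThreeU43.Code
open Cfsg.Lib.LargeExtra (X2 mem_map_conj)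
open Cfsg.Lib.Classical.OrthH1 (lN pN sN)

universe u

theorem card_omega : Nat.card ↥Om = 25920 := by
  obtain ⟨hΩc, -⟩ := Cfsg.Lib.Leech.Co0Section.omega_six
  have hcoe : ∀ (q' : ((Fin 2 ⊕ Fin 2) ⊕ Fin 2 → ZMod 2) → ZMod 2), q' = ⇑qf →
      Nat.card ↥(Cfsg.Omega (ZMod 2) q') = Nat.card ↥Om := fun q' e => by subst e; rfl
  rw [← hcoe _ (Cfsg.Lib.Classical.Refl.minusForm_coe 2 1 1).symm]
  exact hΩc

/-- An orbit of a map constant exactly on cosets. -/
theorem card_fibres {H β : Type*} [Group H] [Finite H] (f : H → β) (S : Subgroup H)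
    (h : ∀ a b, f a = f b ↔ a⁻¹ * b ∈ S) : Nat.card (Set.range f) * Nat.card S = Nat.card H := by
  let F : H ⧸ S → Set.range f := Quotient.lift (fun a => (⟨f a, a, rfl⟩ : Set.range f))
    fun a b hab => Subtype.ext ((h a b).mpr (QuotientGroup.leftRel_apply.mp hab))
  have hF : Function.Bijective F := by
    refine ⟨fun a b => ?_, fun ⟨y, a, e⟩ => ⟨(a : H ⧸ S), Subtype.ext e⟩⟩
    induction a using Quotient.inductionOn with | _ a =>
    induction b using Quotient.inductionOn with | _ b =>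
    intro e
    exact Quotient.sound (QuotientGroup.leftRel_apply.mpr ((h a b).mp (congrArg Subtype.val e)))
  rw [← Nat.card_eq_of_bijective F hF, ← Subgroup.index_eq_card, mul_comm]
  exact card_mul_index S

/-- The centralizer of the standard rotation. -/
noncomputable def CG : Subgroup O6 := Om ⊓ centralizer ({g0} : Set O6)

theorem mem_CG {h : O6} : h ∈ CG ↔ h ∈ Om ∧ Commute h g0 := by
  rw [CG, mem_inf, mem_centralizer_singleton_iff]; rfl

theorem conj_rot (h : O6) {x : ℕ} (hx : x < 64) :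
    cd (h * g0 * h⁻¹) x = rot (cd h 10) (cd h 18) x := by
  rw [cd_mul, cd_mul, cd_g0 (cd_lt _ _), cd_rot h (by norm_num) (by norm_num) (cd_lt _ _), cd_inv' h hx]

theorem card_CG : Nat.card ↥CG = 108 := by
  classical
  let f : ↥Om → ℕ := fun h => key (cd (h : O6) 10) (cd (h : O6) 18)
  have hf : ∀ a b, f a = f b ↔ a⁻¹ * b ∈ CG.subgroupOf Om := by
    intro a b
    rw [mem_subgroupOf, mem_CG]
    push_cast
    constructor
    · intro e
      have heq : (a : O6) * g0 * (a : O6)⁻¹ = (b : O6) * g0 * (b : O6)⁻¹ := ext6 fun x hx => by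
        have hx64 : x < 64 := by simp at hx; omega
        rw [conj_rot _ hx64, conj_rot _ hx64]
        have := key_eq (g := (a : O6) * g0 * (a : O6)⁻¹) (cd_lt _ _) (cd_lt _ _) (fun y hy => conj_rot _ hy)
          (cd_lt _ _) (cd_lt _ _) e x hx
        rwa [conj_rot _ hx64] at this
      refine ⟨mul_mem (inv_mem a.2) b.2, ?_⟩
      show (a : O6)⁻¹ * b * g0 = g0 * ((a : O6)⁻¹ * b)
      calc (a : O6)⁻¹ * b * g0 = (a : O6)⁻¹ * ((b : O6) * g0 * (b : O6)⁻¹) * b := by group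
        _ = (a : O6)⁻¹ * ((a : O6) * g0 * (a : O6)⁻¹) * b := by rw [heq]
        _ = g0 * ((a : O6)⁻¹ * b) := by group
    · rintro ⟨-, hc⟩
      have heq : (b : O6) * g0 * (b : O6)⁻¹ = (a : O6) * g0 * (a : O6)⁻¹ := by
        rw [show (b : O6) * g0 * (b : O6)⁻¹ = (a : O6) * (((a : O6)⁻¹ * b) * g0) * (b : O6)⁻¹ by group, hc.eq]
        group
      simp only [f, key, List.foldl_cons, List.foldl_nil, ← conj_rot _ (show 1 < 64 by norm_num),
        ← conj_rot _ (show 2 < 64 by norm_num), ← conj_rot _ (show 4 < 64 by norm_num),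
        ← conj_rot _ (show 8 < 64 by norm_num), ← conj_rot _ (show 16 < 64 by norm_num),
        ← conj_rot _ (show 32 < 64 by norm_num), heq]
  have hr : Set.range f = ((classW.map wkey).toFinset : Set ℕ) := by
    ext n
    simp only [Set.mem_range, List.coe_toFinset, Set.mem_setOf_eq, List.mem_map]
    constructor
    · rintro ⟨h, rfl⟩
      have ha := cd_lt (h : O6) 10; have hb := cd_lt (h : O6) 18
      have qa : qB (cd (h : O6) 10) = true := by rw [cd_q _ (by norm_num)]; decide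
      have qb : qB (cd (h : O6) 18) = true := by rw [cd_q _ (by norm_num)]; decide
      have pab : pB (cd (h : O6) 10) (cd (h : O6) 18) = true := by rw [cd_p _ (by norm_num) (by norm_num)]; decide
      have hk := List.all_eq_true.mp class_all _ (List.mem_range.mpr ha)
      simp only [qT_eq ha, qa, Bool.not_true, Bool.false_or] at hk
      have hk' := List.all_eq_true.mp hk _ (List.mem_range.mpr hb)
      simpa only [qT_eq hb, qb, pT_eq ha hb, pab, Bool.not_true, Bool.false_or, List.contains_iff_mem, List.mem_map]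
        using hk'
    · rintro ⟨w, hw, rfl⟩
      obtain ⟨h, hh, he⟩ := exists_word1 w fun i hi => decide_eq_true_eq.mp
        (List.all_eq_true.mp (List.all_eq_true.mp class_len.2.2 w hw) i hi)
      exact ⟨⟨h, hh⟩, by simp only [f, wkey, he 10 (by norm_num), he 18 (by norm_num)]⟩
  have h240 : Nat.card (Set.range f) = 240 := by
    rw [hr, Nat.card_coe_set_eq, Set.ncard_coe_finset, List.toFinset_card_of_nodup class_len.2.1, List.length_map]
    exact beq_iff_eq.mp class_len.1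
  have hcard := card_fibres f (CG.subgroupOf Om) hf
  rw [h240, Nat.card_congr (subgroupOfEquivOfLe (show CG ≤ Om from inf_le_left)).toEquiv, card_omega] at hcard
  omega

/-- The stabiliser of the point in the commutator subgroup. -/
noncomputable def S1 : Subgroup ↥Om where
  carrier := {h | cd (h : O6) 1 = 1}
  one_mem' := cd_one (by norm_num)
  mul_mem' := fun {a b} ha hb => by
    show cd ((a : O6) * b) 1 = 1
    rw [cd_mul, hb, ha]
  inv_mem' := fun {a} ha => by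
    show cd (a : O6)⁻¹ 1 = 1
    conv_lhs => rw [← ha, cd_inv _ (by norm_num)]

theorem card_S1 : Nat.card ↥S1 = 960 := by
  classical
  let f : ↥Om → ℕ := fun h => cd (h : O6) 1
  have hf : ∀ a b, f a = f b ↔ a⁻¹ * b ∈ S1 := fun a b => by
    show cd (a : O6) 1 = cd (b : O6) 1 ↔ cd (((a⁻¹ * b : ↥Om)) : O6) 1 = 1
    push_cast
    rw [cd_mul]
    constructor
    · intro e; rw [← e, cd_inv _ (by norm_num)]
    · intro e
      conv_lhs => rw [← e, cd_inv' _ (cd_lt _ _)]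
  have hr : Set.range f = (((Finset.range 64).filter fun x => qB x = false ∧ x ≠ 0) : Set ℕ) := by
    ext n
    simp only [Set.mem_range, Finset.coe_filter, Finset.mem_range, Set.mem_setOf_eq]
    constructor
    · rintro ⟨h, rfl⟩
      refine ⟨cd_lt _ _, by show qB (cd _ 1) = false; rw [cd_q _ (by norm_num)]; decide, fun e => ?_⟩
      have := cd_inv (h : O6) (show 1 < 64 by norm_num)
      rw [show cd (h : O6) 1 = 0 from e, cd_zero] at this
      norm_num at this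
    · rintro ⟨hn, hq, h0⟩
      obtain ⟨g, hg, e⟩ := trans_sing hn h0 hq
      exact ⟨⟨g, hg⟩, e⟩
  have hcard := card_fibres f S1 hf
  rw [hr, Nat.card_coe_set_eq, Set.ncard_coe_finset, sing_count, card_omega] at hcard
  omega

/-- An element of order three fixing the point is conjugate in the stabiliser to the standard rotation. -/
theorem conj_in_S1 {g : O6} (hg : g ∈ Om) (h1 : cd g 1 = 1) (ho : orderOf g = 3) :
    ∃ h ∈ Om, cd h 1 = 1 ∧ h * g0 * h⁻¹ = g := by
  haveI : Fact (Nat.Prime 3) := ⟨Nat.prime_three⟩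
  have hv : (Nat.card ↥S1).factorization 3 = 1 := by
    rw [card_S1, show 960 = 3 ^ 1 * 320 by norm_num, Nat.factorization_mul (by norm_num) (by norm_num),
      Nat.Prime.factorization_pow (by norm_num)]
    simp [Nat.factorization_eq_zero_of_not_dvd (show ¬ 3 ∣ 320 by norm_num)]
  have hg0 : cd g0 1 = 1 := by rw [cd_g0 (by norm_num)]; decide +kernel
  have o0 : orderOf g0 = 3 := orderOf_eq_prime (by rw [pow_three, ← mul_assoc, g0_cube]) g0_ne
  let a : ↥S1 := ⟨⟨g0, g0_mem⟩, hg0⟩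
  let b : ↥S1 := ⟨⟨g, hg⟩, h1⟩
  have oa : orderOf a = 3 := by rw [← Subgroup.orderOf_coe, ← Subgroup.orderOf_coe]; exact o0
  have ob : orderOf b = 3 := by rw [← Subgroup.orderOf_coe, ← Subgroup.orderOf_coe]; exact ho
  obtain ⟨c, hc⟩ := MulAction.exists_smul_eq (↥S1)
    (Sylow.ofCard (zpowers a) (by rw [Nat.card_zpowers, oa, hv, pow_one]))
    (Sylow.ofCard (zpowers b) (by rw [Nat.card_zpowers, ob, hv, pow_one]))
  have hm : c * a * c⁻¹ ∈ zpowers b := by
    have := congrArg (fun P : Sylow 3 ↥S1 => (P : Subgroup ↥S1)) hc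
    simp only [Sylow.coe_subgroup_smul, Sylow.coe_ofCard] at this
    rw [← this]
    exact Subgroup.smul_mem_pointwise_smul _ _ _ (mem_zpowers a)
  obtain ⟨k, hk⟩ := mem_zpowers_iff.mp hm
  rw [← zpow_mod_orderOf, ob] at hk
  have hk' : k % (3 : ℤ) = 0 ∨ k % (3 : ℤ) = 1 ∨ k % (3 : ℤ) = 2 := by omega
  have key : ∀ m : ℤ, k % (3 : ℤ) = m → (c : ↥Om).1 * g0 * (c : ↥Om).1⁻¹ = g ^ m := fun m e => by
    have := congrArg (fun x : ↥S1 => ((x : ↥Om) : O6)) hk
    push_cast at this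
    rw [e] at this
    exact this.symm
  rcases hk' with e | e | e
  · exfalso
    have h := key 0 e
    rw [zpow_zero, mul_inv_eq_one] at h
    exact g0_ne (mul_eq_left.mp h)
  · exact ⟨(c : ↥Om).1, (c : ↥Om).2, c.2, by rw [key 1 e, zpow_one]⟩
  · obtain ⟨j, hj, hj1, hje⟩ := exists_stab [1, 0, 0, 1, 1, 0, 1] (by decide)
    have hinv : j * g0 * j⁻¹ = g0 * g0 := by
      refine mul_inv_eq_iff_eq_mul.mpr (cd_ext fun x hx => ?_)
      have hlt : r0 x < 64 := rot_lt (by norm_num) (by norm_num) hx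
      have hw : wact g2 [1, 0, 0, 1, 1, 0, 1] x < 64 := by rw [← hje x hx]; exact cd_lt _ _
      rw [cd_mul, cd_mul, cd_mul, cd_g0 hx, hje _ hlt, hje x hx, cd_g0 hw,
        cd_g0 (rot_lt (by norm_num) (by norm_num) hw)]
      exact beq_iff_eq.mp (List.all_eq_true.mp invert_ok x (List.mem_range.mpr hx))
    refine ⟨(c : ↥Om).1 * j, mul_mem (c : ↥Om).2 hj, by rw [cd_mul, hj1]; exact c.2, ?_⟩
    have g3 : g ^ 3 = 1 := ho ▸ pow_orderOf_eq_one g
    rw [show (c : ↥Om).1 * j * g0 * ((c : ↥Om).1 * j)⁻¹ = (c : ↥Om).1 * (j * g0 * j⁻¹) * (c : ↥Om).1⁻¹ by group,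
      hinv, show (c : ↥Om).1 * (g0 * g0) * (c : ↥Om).1⁻¹ =
        ((c : ↥Om).1 * g0 * (c : ↥Om).1⁻¹) * ((c : ↥Om).1 * g0 * (c : ↥Om).1⁻¹) by group, key 2 e, ← zpow_add]
    calc g ^ ((2 : ℤ) + 2) = g ^ 3 * g := by norm_num [zpow_ofNat]; group
      _ = g := by rw [g3, one_mul]

variable {G : Type u} [Group G] [Finite G] {z : G}

namespace Three

variable (T : Three z)

/-- The part of the extraspecial group fixed by the element. -/
def Q0 : Subgroup G := T.Q ⊓ centralizer ({T.y} : Set G)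

/-- The centralizer of the involution and the element. -/
def MC : Subgroup G := centralizer ({z} : Set G) ⊓ centralizer ({T.y} : Set G)

theorem mem_Q0 {q : G} : q ∈ T.Q0 ↔ q ∈ T.Q ∧ Commute q T.y := by
  rw [Q0, mem_inf, mem_centralizer_singleton_iff]; rfl

theorem mem_MC {x : G} : x ∈ T.MC ↔ Commute x z ∧ Commute x T.y := by
  rw [MC, mem_inf, mem_centralizer_singleton_iff, mem_centralizer_singleton_iff]; rfl

theorem yyy : T.y * T.y * T.y = 1 := by
  have := pow_orderOf_eq_one T.y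
  rwa [T.y3, pow_three, ← mul_assoc] at this

theorem commute_iff_code {q : G} (hq : q ∈ T.Q) : Commute q T.y ↔ r0 (T.π q) = T.π q := by
  have he : T.π (T.y * q * T.y⁻¹) = r0 (T.π q) := by rw [T.toCtx.act T.yz hq, T.my, cd_g0 (T.π_lt q)]
  refine ⟨fun h => by rw [← he, ← h.eq, mul_inv_cancel_right], fun h => ?_⟩
  rcases T.toCtx.pi_eq (T.toCtx.norm T.yz hq) hq (he.trans h) with e | e
  · exact (mul_inv_eq_iff_eq_mul.mp e).symm
  · exfalso
    have e3 : ∀ w, T.y * (z * w) * T.y⁻¹ = z * (T.y * w * T.y⁻¹) := fun w => by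
      rw [← mul_assoc T.y z w, T.yz.eq]; group
    have key : T.y * (T.y * (T.y * q * T.y⁻¹) * T.y⁻¹) * T.y⁻¹ = z * q := by
      rw [e, e3, e, e3, e3, e, ← mul_assoc z z, T.X.zz, one_mul]
    rw [show T.y * (T.y * (T.y * q * T.y⁻¹) * T.y⁻¹) * T.y⁻¹ = (T.y * T.y * T.y) * q * (T.y * T.y * T.y)⁻¹ by group,
      T.yyy, one_mul, inv_one, mul_one] at key
    exact T.X.ne (mul_eq_right.mp key.symm)

theorem code_Q0 {q : G} (hq : q ∈ T.Q) : q ∈ T.Q0 ↔ T.π q ∈ F0 := by
  rw [T.mem_Q0, T.commute_iff_code hq]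
  have h := List.all_eq_true.mp F0_ok.1 (T.π q) (List.mem_range.mpr (T.π_lt q))
  simp only [Bool.and_eq_true, beq_iff_eq] at h
  constructor
  · intro e
    have h1 := h.1
    rw [beq_iff_eq.mpr e.2] at h1
    exact List.contains_iff_mem.mp h1
  · intro e
    refine ⟨hq, ?_⟩
    have h1 := h.1
    rw [List.contains_iff_mem.mpr e] at h1
    exact beq_iff_eq.mp h1.symm

theorem card_Q0 : Nat.card ↥T.Q0 = 32 := by
  classical
  have hF : ∀ x ∈ F0, x < 64 := by decide
  choose lift hlift hπ using fun x : {x // x ∈ F0} => T.π_surj x.1 (hF x.1 x.2)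
  let f : Bool × {x // x ∈ F0} → T.Q0 := fun p => ⟨(bif p.1 then z else 1) * lift p.2, by
    have h1 : (bif p.1 then z else 1) * lift p.2 ∈ T.Q :=
      mul_mem (by cases p.1 <;> simp [T.X.mem, one_mem]) (hlift _)
    rw [T.code_Q0 h1, T.π_mul _ (by cases p.1 <;> simp [T.X.mem, one_mem]) _ (hlift _)]
    cases p.1 <;> simp [T.toCtx.pi_one, T.toCtx.pi_z, hπ, p.2.2]⟩
  have hf : Function.Bijective f := by
    refine ⟨fun a b h => ?_, fun q => ?_⟩
    · have hv := congrArg Subtype.val h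
      have h' := congrArg T.π hv
      simp only [f] at h' hv
      rw [T.π_mul _ (by cases a.1 <;> simp [T.X.mem, one_mem]) _ (hlift _),
        T.π_mul _ (by cases b.1 <;> simp [T.X.mem, one_mem]) _ (hlift _), hπ, hπ] at h'
      have e2 : a.2 = b.2 := by
        refine Subtype.ext ?_
        have e0 : ∀ i : Bool, T.π (bif i then z else 1) = 0 := fun i => by
          cases i <;> simp [T.toCtx.pi_one, T.toCtx.pi_z]
        simpa [e0] using h'
      rw [e2] at hv
      have e1 : a.1 = b.1 := by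
        have := mul_right_cancel hv
        revert this
        cases a.1 <;> cases b.1 <;> simp [T.X.ne, Ne.symm T.X.ne]
      exact Prod.ext e1 e2
    · obtain ⟨hqQ, -⟩ := T.mem_Q0.mp q.2
      let x : {x // x ∈ F0} := ⟨T.π q, (T.code_Q0 hqQ).mp q.2⟩
      rcases T.toCtx.pi_eq hqQ (hlift x) (hπ x).symm with e | e
      · exact ⟨(false, x), Subtype.ext (by simp [f, e])⟩
      · exact ⟨(true, x), Subtype.ext (by simp [f, e])⟩
  rw [← Nat.card_eq_of_bijective f hf, Nat.card_prod, Nat.card_eq_fintype_card, Fintype.card_bool,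
    Nat.card_congr (Equiv.subtypeEquivRight fun x => (List.mem_toFinset).symm), Nat.card_eq_finsetCard,
    List.toFinset_card_of_nodup F0_ok.2.2.2, F0_ok.2.2.1]

theorem isP_Q : IsPGroup 2 T.Q := T.X.isP

/-- Lifting an element carrying the standard rotation to the image of an element of order three. -/
theorem lift_to {h : O6} (hh : h ∈ Om) {e : G} (he : orderOf e = 3) (hez : Commute e z)
    (hc : h * g0 * h⁻¹ = T.toCtx.m e) :
    ∃ x, Commute x z ∧ T.toCtx.m x = h ∧ x * T.y * x⁻¹ = e := by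
  obtain ⟨d, hd, hdm⟩ := T.toCtx.m_surj hh
  set a := d * T.y * d⁻¹ with ha
  have haz : Commute a z := (hd.mul_left T.yz).mul_left hd.inv_left
  have hmem : e * a⁻¹ ∈ T.Q := by
    rw [← T.toCtx.m_one_iff (hez.mul_left haz.inv_left), T.toCtx.m_mul hez haz.inv_left, T.toCtx.m_inv haz,
      ha, T.toCtx.m_mul (hd.mul_left T.yz) hd.inv_left, T.toCtx.m_mul hd T.yz, T.toCtx.m_inv hd, hdm, T.my, ← hc,
      mul_inv_cancel]
  obtain ⟨n, hn, hne⟩ := exists_conj_mem T.isP_Q (by rw [ha]; exact ((MulAut.conj d).orderOf_eq T.y).trans T.y3) he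
    (T.nQ (mem_centralizer_singleton_iff.mpr haz)) hmem
  refine ⟨n * d, (T.X.central n hn).mul_left hd, ?_, ?_⟩
  · rw [T.toCtx.m_mul (T.X.central n hn) hd, (T.toCtx.m_one_iff (T.X.central n hn)).mpr hn, one_mul, hdm]
  · rw [← hne, ha]; group

/-- The part of `Q` centralising `s`. -/
def AS : Subgroup G := T.Q ⊓ centralizer ({T.s} : Set G)

/-- Lifting inside the pair centralizer. -/
theorem lift_T {h : O6} (hh : h ∈ Om) (h1 : cd h 1 = 1) {e : G} (he : orderOf e = 3) (hez : Commute e z)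
    (hes : Commute e T.s) (hc : h * g0 * h⁻¹ = T.toCtx.m e) :
    ∃ x, T.toPt.T x ∧ T.toCtx.m x = h ∧ x * T.y * x⁻¹ = e := by
  obtain ⟨d, hd, hdm⟩ := T.toPt.T_lift hh h1
  set a := d * T.y * d⁻¹ with ha
  have haT : T.toPt.T a := T.toPt.T_mul (T.toPt.T_mul hd ⟨T.yz, T.ys⟩) (T.toPt.T_inv hd)
  have hmem : e * a⁻¹ ∈ T.Q := by
    rw [← T.toCtx.m_one_iff (hez.mul_left haT.1.inv_left), T.toCtx.m_mul hez haT.1.inv_left, T.toCtx.m_inv haT.1,
      ha, T.toCtx.m_mul (hd.1.mul_left T.yz) hd.1.inv_left, T.toCtx.m_mul hd.1 T.yz, T.toCtx.m_inv hd.1, hdm, T.my,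
      ← hc, mul_inv_cancel]
  have hA : ∀ {x}, x ∈ T.AS ↔ T.toPt.A x := fun {x} => by
    rw [AS, mem_inf, mem_centralizer_singleton_iff]; rfl
  obtain ⟨n, hn, hne⟩ := exists_conj_mem (N := T.AS) (T.isP_Q.to_le inf_le_left)
    (by rw [ha]; exact ((MulAut.conj d).orderOf_eq T.y).trans T.y3) he
    (mem_normalizer_iff.mpr fun x => ⟨fun hx => hA.mpr (T.toPt.A_norm haT (hA.mp hx)), fun hx => by
      have := hA.mpr (T.toPt.A_norm (T.toPt.T_inv haT) (hA.mp hx))
      rwa [show a⁻¹ * (a * x * a⁻¹) * a⁻¹⁻¹ = x by group] at this⟩)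
    (hA.mpr ⟨hmem, hes.mul_left haT.2.inv_left⟩)
  refine ⟨n * d, T.toPt.T_mul (T.toPt.A_T (hA.mp hn)) hd, ?_, ?_⟩
  · rw [T.toCtx.m_mul (T.X.central n (hA.mp hn).1) hd.1,
      (T.toCtx.m_one_iff (T.X.central n (hA.mp hn).1)).mpr (hA.mp hn).1, one_mul, hdm]
  · rw [← hne, ha]; group

theorem m_order {e : G} (he : orderOf e = 3) (hez : Commute e z) : orderOf (T.toCtx.m e) = 3 := by
  haveI : Fact (Nat.Prime 3) := ⟨Nat.prime_three⟩
  haveI : Fact (Nat.Prime 2) := ⟨Nat.prime_two⟩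
  have e3 : e * e * e = 1 := by
    have := pow_orderOf_eq_one e
    rwa [he, pow_three, ← mul_assoc] at this
  refine orderOf_eq_prime ?_ fun h => ?_
  · rw [pow_three, ← mul_assoc, ← T.toCtx.m_mul hez hez, ← T.toCtx.m_mul (hez.mul_left hez) hez, e3, T.toCtx.m_one]
  · obtain ⟨k, hk⟩ := T.isP_Q ⟨e, (T.toCtx.m_one_iff hez).mp h⟩
    have := orderOf_dvd_of_pow_eq_one (congrArg Subtype.val hk : e ^ 2 ^ k = 1)
    rw [he] at this
    have := Nat.Prime.dvd_of_dvd_pow Nat.prime_three this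
    norm_num at this

/-- Elements of order three in the pair centralizer are conjugate to the adapted one. -/
theorem conj_T {e : G} (he : orderOf e = 3) (hez : Commute e z) (hes : Commute e T.s) :
    ∃ x, T.toPt.T x ∧ x * T.y * x⁻¹ = e := by
  obtain ⟨h, hh, h1, hc⟩ := conj_in_S1 (T.toCtx.m_mem hez) (T.toPt.T_fix ⟨hez, hes⟩) (T.m_order he hez)
  obtain ⟨x, hx, -, hxe⟩ := T.lift_T hh h1 he hez hes hc
  exact ⟨x, hx, hxe⟩

theorem exists_inverter : ∃ n, Commute n z ∧ n * T.y * n⁻¹ = T.y⁻¹ := by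
  obtain ⟨x, hx, hxe⟩ := T.conj_T (e := T.y⁻¹) (by rw [orderOf_inv, T.y3]) T.yz.inv_left T.ys.inv_left
  exact ⟨x, hx.1, hxe⟩

theorem exists_swap_y : ∃ h, Commute h T.y ∧ h * z * h⁻¹ = T.s := by
  have ez : Commute (T.k⁻¹ * T.y * T.k) z := by
    have := (Commute.conj_iff T.k⁻¹).mpr T.ys
    rwa [inv_inv, T.toPt.kinv_s] at this
  have es : Commute (T.k⁻¹ * T.y * T.k) T.s := by
    have := (Commute.conj_iff T.k⁻¹).mpr T.yz
    rwa [inv_inv, T.toPt.kinv_z] at this
  obtain ⟨x, hx, hxe⟩ := T.conj_T (by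
    have := (MulAut.conj T.k⁻¹).orderOf_eq T.y
    simp only [MulAut.conj_apply, inv_inv] at this
    rw [this, T.y3]) ez es
  refine ⟨T.k * x, ?_, ?_⟩
  · refine mul_inv_eq_iff_eq_mul.mp ?_
    calc T.k * x * T.y * (T.k * x)⁻¹ = T.k * (x * T.y * x⁻¹) * T.k⁻¹ := by group
      _ = T.y := by rw [hxe]; group
  · calc T.k * x * z * (T.k * x)⁻¹ = T.k * (x * z * x⁻¹) * T.k⁻¹ := by group
      _ = T.s := by rw [hx.1.eq, mul_inv_cancel_right, T.kz]

theorem exists_move {u : G} (hu : u ∈ T.Q0) (huu : u * u = 1) (hu1 : u ≠ 1) (huz : u ≠ z) :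
    ∃ c, c ∈ T.MC ∧ c * T.s * c⁻¹ = u := by
  obtain ⟨huQ, huy⟩ := T.mem_Q0.mp hu
  have h0 : T.π u ≠ 0 := fun e => by rcases (T.π_zero u huQ).mp e with r | r <;> contradiction
  obtain ⟨h, hh, he⟩ := trans_sing (T.π_lt u) h0 ((T.π_sq u huQ).mp huu)
  obtain ⟨d, hd, hdm⟩ := T.toCtx.m_surj hh
  have e1 : T.π (d * T.s * d⁻¹) = T.π u := by rw [T.toCtx.act hd T.hs, hdm, T.πs, he]
  obtain ⟨q, hq, hqe⟩ := T.toCtx.conj_to_code huQ (T.toCtx.norm hd T.hs) (by rw [e1]; exact h0) e1.symm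
  set c := q * d with hc
  have hcz : Commute c z := (T.X.central q hq).mul_left hd
  have hcs : c * T.s * c⁻¹ = u := by rw [hc, show q * d * T.s * (q * d)⁻¹ = q * (d * T.s * d⁻¹) * q⁻¹ by group, hqe]
  have ez : Commute (c⁻¹ * T.y * c) z := (hcz.inv_left.mul_left T.yz).mul_left hcz
  have es : Commute (c⁻¹ * T.y * c) T.s := by
    have := (Commute.conj_iff c⁻¹).mpr huy.symm
    rwa [inv_inv, ← hcs, show c⁻¹ * (c * T.s * c⁻¹) * c = T.s by group] at this
  obtain ⟨x, hx, hxe⟩ := T.conj_T (by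
    have := (MulAut.conj c⁻¹).orderOf_eq T.y
    simp only [MulAut.conj_apply, inv_inv] at this
    rw [this, T.y3]) ez es
  refine ⟨c * x, T.mem_MC.mpr ⟨hcz.mul_left hx.1, ?_⟩, ?_⟩
  · refine mul_inv_eq_iff_eq_mul.mp ?_
    calc c * x * T.y * (c * x)⁻¹ = c * (x * T.y * x⁻¹) * c⁻¹ := by group
      _ = T.y := by rw [hxe]; group
  · calc c * x * T.s * (c * x)⁻¹ = c * (x * T.s * x⁻¹) * c⁻¹ := by group
      _ = u := by rw [hx.2.eq, mul_inv_cancel_right, hcs]

theorem y_MC : T.y ∈ T.MC := T.mem_MC.mpr ⟨T.yz, Commute.refl _⟩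

theorem m_CG {x : G} (hx : x ∈ T.MC) : T.toCtx.m x ∈ CG := by
  obtain ⟨hxz, hxy⟩ := T.mem_MC.mp hx
  refine mem_CG.mpr ⟨T.toCtx.m_mem hxz, ?_⟩
  show T.toCtx.m x * g0 = g0 * T.toCtx.m x
  rw [← T.my, ← T.toCtx.m_mul hxz T.yz, ← T.toCtx.m_mul T.yz hxz, hxy.eq]

theorem card_MC : Nat.card ↥T.MC = 3456 := by
  let φ : ↥T.MC →* O6 :=
    { toFun := fun x => T.toCtx.m x
      map_one' := T.toCtx.m_one
      map_mul' := fun a b => T.toCtx.m_mul (T.mem_MC.mp a.2).1 (T.mem_MC.mp b.2).1 }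
  have hr : φ.range = CG := by
    ext h
    refine ⟨fun ⟨x, hx⟩ => hx ▸ T.m_CG x.2, fun hh => ?_⟩
    obtain ⟨hO, hc⟩ := mem_CG.mp hh
    obtain ⟨x, hx, hxm, hxe⟩ := T.lift_to hO T.y3 T.yz (by rw [T.my, hc.eq, mul_inv_cancel_right])
    exact ⟨⟨x, T.mem_MC.mpr ⟨hx, mul_inv_eq_iff_eq_mul.mp hxe⟩⟩, hxm⟩
  have hk : Nat.card ↥φ.ker = 32 := by
    rw [← T.card_Q0]
    refine Nat.card_congr ⟨fun x => ⟨x.1.1, T.mem_Q0.mpr
        ⟨(T.toCtx.m_one_iff (T.mem_MC.mp x.1.2).1).mp x.2, (T.mem_MC.mp x.1.2).2⟩⟩,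
      fun q => ⟨⟨q.1, T.mem_MC.mpr ⟨T.X.central _ (T.mem_Q0.mp q.2).1, (T.mem_Q0.mp q.2).2⟩⟩,
        (T.toCtx.m_one_iff (T.X.central _ (T.mem_Q0.mp q.2).1)).mpr (T.mem_Q0.mp q.2).1⟩,
      fun _ => rfl, fun _ => rfl⟩
  have h := φ.ker.card_mul_index
  rw [index_ker, hr, card_CG, hk] at h
  omega

/-- The meet of the fixed group with a conjugate by a swapping element. -/
theorem meet_four {g u : G} (hu : u ∈ T.Q0) (hg : Commute g T.y) (hgu : g * z * g⁻¹ = u) (hu1 : u ≠ 1)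
    (huz : u ≠ z) {q : G} (hq : q ∈ T.Q0) : g⁻¹ * q * g ∈ T.Q0 ↔ q = 1 ∨ q = z ∨ q = u ∨ q = z * u := by
  have huu : u * u = 1 := by
    rw [← hgu, show g * z * g⁻¹ * (g * z * g⁻¹) = g * (z * z) * g⁻¹ by group, T.X.zz, mul_one, mul_inv_cancel]
  obtain ⟨c, hc, hcs⟩ := T.exists_move hu huu hu1 huz
  obtain ⟨hcz, hcy⟩ := T.mem_MC.mp hc
  set n := T.k⁻¹ * (c⁻¹ * g) with hn
  have hnz : Commute n z := by
    refine mul_inv_eq_iff_eq_mul.mp ?_
    calc n * z * n⁻¹ = T.k⁻¹ * (c⁻¹ * (g * z * g⁻¹) * c) * T.k := by rw [hn]; group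
      _ = z := by rw [hgu, ← hcs, ← T.kz]; group
  have hmem : ∀ x, g⁻¹ * x * g ∈ T.Q ↔ c⁻¹ * x * c ∈ T.toPt.Q' := by
    intro x
    rw [T.toPt.mem_Q']
    have e : g⁻¹ * x * g = n⁻¹ * (T.k⁻¹ * (c⁻¹ * x * c) * T.k) * n := by rw [hn]; group
    rw [e]
    constructor
    · intro h
      have := T.toCtx.norm hnz h
      rwa [show n * (n⁻¹ * (T.k⁻¹ * (c⁻¹ * x * c) * T.k) * n) * n⁻¹ = T.k⁻¹ * (c⁻¹ * x * c) * T.k by group] at this
    · intro h
      have := T.toCtx.norm hnz.inv_left h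
      rwa [inv_inv] at this
  have hgy' : ∀ x, Commute x T.y → Commute (g⁻¹ * x * g) T.y := fun x hx => (hg.inv_left.mul_left hx).mul_left hg
  constructor
  · intro h
    have hcq : c⁻¹ * q * c ∈ T.Q := by
      have := T.toCtx.norm hcz.inv_left (T.mem_Q0.mp hq).1
      rwa [inv_inv] at this
    have hR : T.toPt.R (c⁻¹ * q * c) := ⟨(hmem q).mp (T.mem_Q0.mp h).1, T.X.central _ hcq⟩
    have hE := T.toPt.R_cap hR hcq
    have back : ∀ w, c⁻¹ * q * c = w → q = c * w * c⁻¹ := fun w e => by rw [← e]; group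
    rcases hE with e | e | e | e
    · exact Or.inl (by rw [back _ e]; group)
    · exact Or.inr (Or.inl (by rw [back _ e, hcz.eq, mul_inv_cancel_right]))
    · exact Or.inr (Or.inr (Or.inl (by rw [back _ e, hcs])))
    · refine Or.inr (Or.inr (Or.inr ?_))
      rw [back _ e, ← mul_assoc, hcz.eq, mul_assoc z, mul_assoc, hcs]
  · intro h
    have hE : T.toPt.InE (c⁻¹ * q * c) := by
      rcases h with rfl | rfl | rfl | rfl
      · exact Or.inl (by group)
      · exact Or.inr (Or.inl (by rw [mul_assoc, ← hcz.eq, inv_mul_cancel_left]))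
      · exact Or.inr (Or.inr (Or.inl (by rw [← hcs]; group)))
      · refine Or.inr (Or.inr (Or.inr ?_))
        rw [← hcs, ← mul_assoc c⁻¹, hcz.inv_left.eq]
        group
    exact T.mem_Q0.mpr ⟨(hmem q).mpr (T.toPt.E_R hE).1, hgy' q (T.mem_Q0.mp hq).2⟩

end Three

end Cfsg.Lib.SuzukiType.ThreeU43
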