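import Cfsg.Agent.SuzukiType.Point

/-!
Coded computations on the rotation of an anisotropic line in the elliptic space of dimension six: its conjugates and
the isometries of its fixed space.
-/

set_option autoImplicit false
set_option maxRecDepth 100000
set_option maxHeartbeats 2000000

namespace Cfsg.Lib.SuzukiType.ThreeU43.Code

open Cfsg.Lib.SuzukiType.Code

/-- The rotation of the line spanned by two nonsingular vectors. -/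
def rot (a b x : ℕ) : ℕ := rf a (rf b x)

/-- The standard rotation. -/
abbrev r0 (x : ℕ) : ℕ := rot 10 18 x

/-- A key determining a rotation. -/
def key (a b : ℕ) : ℕ :=
  [1, 2, 4, 8, 16, 32].foldl (fun n x => n * 64 + rot a b x) 0

/-- Words giving every rotation from the standard one. -/
def classW : List (List ℕ) :=
  [[], [0], [1], [2], [0, 0], [0, 1], [0, 2], [1, 0], [1, 1], [1, 2], [2, 0], [2, 1], [2, 2], [0, 0, 1], [0, 1, 0],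
  [0, 1, 2], [0, 2, 0], [0, 2, 1], [1, 0, 0], [1, 0, 1], [1, 0, 2], [1, 1, 0], [1, 1, 2], [1, 2, 0], [1, 2, 1], [1,
  2, 2], [2, 0, 0], [2, 0, 1], [2, 1, 1], [2, 2, 0], [2, 2, 1], [0, 0, 1, 0], [0, 0, 1, 2], [0, 1, 0, 0], [0, 1, 0,
  1], [0, 1, 0, 2], [0, 1, 1, 0], [0, 1, 1, 2], [0, 1, 2, 0], [0, 1, 2, 1], [0, 1, 2, 2], [0, 2, 0, 0], [0, 2, 0,
  1], [0, 2, 1, 1], [0, 2, 2, 1], [1, 0, 0, 1], [1, 0, 1, 0], [1, 0, 1, 2], [1, 0, 2, 0], [1, 0, 2, 1], [1, 1, 0,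
  0], [1, 1, 0, 2], [1, 1, 2, 0], [1, 1, 2, 1], [1, 1, 2, 2], [1, 2, 0, 0], [1, 2, 0, 1], [1, 2, 1, 1], [1, 2, 2,
  1], [2, 0, 1, 0], [2, 0, 1, 2], [2, 1, 0, 0], [2, 1, 0, 1], [2, 1, 0, 2], [2, 1, 1, 0], [2, 1, 1, 2], [2, 2, 0,
  0], [2, 2, 1, 1], [0, 0, 1, 0, 0], [0, 0, 1, 0, 1], [0, 0, 1, 0, 2], [0, 0, 1, 1, 0], [0, 0, 1, 2, 0], [0, 0, 1,
  2, 1], [0, 0, 1, 2, 2], [0, 0, 2, 0, 1], [0, 0, 2, 2, 1], [0, 1, 0, 0, 1], [0, 1, 0, 1, 0], [0, 1, 0, 2, 0], [0,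
  1, 0, 2, 1], [0, 1, 1, 0, 0], [0, 1, 1, 2, 1], [0, 1, 2, 0, 0], [0, 1, 2, 1, 1], [0, 1, 2, 2, 1], [0, 2, 1, 0, 0],
  [0, 2, 1, 0, 1], [0, 2, 1, 0, 2], [0, 2, 1, 1, 0], [0, 2, 2, 1, 1], [1, 0, 0, 1, 0], [1, 0, 0, 1, 2], [1, 0, 1, 0,
  0], [1, 0, 1, 0, 2], [1, 0, 1, 1, 0], [1, 0, 1, 2, 0], [1, 0, 1, 2, 1], [1, 0, 1, 2, 2], [1, 0, 2, 0, 0], [1, 0,
  2, 1, 1], [1, 1, 0, 0, 1], [1, 1, 0, 1, 0], [1, 1, 0, 1, 2], [1, 1, 0, 2, 0], [1, 1, 0, 2, 1], [1, 1, 2, 1, 1],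
  [1, 1, 2, 2, 1], [1, 2, 0, 1, 0], [1, 2, 0, 1, 2], [1, 2, 1, 0, 1], [1, 2, 2, 0, 0], [1, 2, 2, 1, 1], [2, 0, 0, 1,
  0], [2, 0, 0, 1, 2], [2, 0, 1, 0, 0], [2, 0, 1, 0, 1], [2, 0, 1, 0, 2], [2, 0, 1, 1, 0], [2, 0, 1, 1, 2], [2, 0,
  1, 2, 0], [2, 0, 1, 2, 1], [2, 0, 1, 2, 2], [2, 1, 0, 0, 1], [2, 1, 0, 1, 0], [2, 1, 0, 1, 2], [2, 1, 0, 2, 0],
  [2, 1, 0, 2, 1], [2, 1, 1, 0, 0], [2, 1, 1, 2, 1], [2, 2, 0, 1, 0], [2, 2, 0, 1, 2], [2, 2, 1, 0, 0], [2, 2, 1, 0,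
  2], [0, 0, 1, 0, 0, 1], [0, 0, 1, 1, 0, 0], [0, 0, 1, 2, 0, 0], [0, 0, 1, 2, 1, 1], [0, 0, 2, 1, 0, 2], [0, 0, 2,
  1, 1, 0], [0, 1, 0, 2, 0, 0], [0, 1, 1, 0, 0, 1], [0, 1, 1, 2, 1, 1], [0, 1, 2, 2, 0, 0], [0, 1, 2, 2, 1, 1], [0,
  2, 0, 1, 0, 0], [0, 2, 0, 1, 0, 1], [0, 2, 0, 1, 0, 2], [0, 2, 0, 1, 1, 0], [0, 2, 1, 0, 1, 0], [0, 2, 1, 1, 2,
  1], [0, 2, 2, 1, 0, 0], [0, 2, 2, 1, 0, 2], [1, 0, 0, 1, 0, 0], [1, 0, 0, 2, 2, 1], [1, 0, 1, 0, 2, 0], [1, 0, 1,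
  1, 0, 0], [1, 0, 1, 2, 0, 0], [1, 0, 1, 2, 2, 1], [1, 0, 2, 1, 0, 2], [1, 0, 2, 1, 1, 0], [1, 1, 0, 0, 1, 0], [1,
  1, 0, 0, 1, 2], [1, 1, 0, 1, 0, 0], [1, 1, 0, 1, 1, 0], [1, 1, 0, 1, 2, 2], [1, 1, 2, 2, 0, 0], [1, 1, 2, 2, 1,
  1], [1, 2, 0, 0, 1, 0], [1, 2, 0, 1, 0, 0], [1, 2, 0, 1, 1, 0], [1, 2, 0, 1, 2, 0], [1, 2, 0, 1, 2, 2], [1, 2, 2,
  1, 0, 0], [2, 0, 0, 1, 0, 0], [2, 0, 0, 1, 1, 0], [2, 0, 0, 1, 2, 0], [2, 0, 0, 1, 2, 2], [2, 0, 1, 0, 0, 1], [2,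
  0, 1, 0, 2, 1], [2, 0, 1, 1, 0, 0], [2, 0, 1, 2, 0, 0], [2, 0, 1, 2, 1, 1], [2, 1, 0, 0, 1, 0], [2, 1, 0, 1, 0,
  0], [2, 1, 0, 1, 1, 0], [2, 1, 0, 1, 2, 0], [2, 1, 0, 2, 0, 0], [2, 1, 1, 0, 1, 2], [2, 2, 0, 0, 1, 0], [2, 2, 0,
  0, 1, 2], [2, 2, 0, 1, 0, 0], [2, 2, 0, 1, 1, 0], [2, 2, 0, 1, 2, 0], [2, 2, 0, 1, 2, 1], [2, 2, 0, 1, 2, 2], [2,
  2, 1, 0, 0, 1], [2, 2, 1, 0, 1, 0], [2, 2, 1, 0, 1, 2], [2, 2, 1, 0, 2, 1], [2, 2, 1, 1, 0, 0], [0, 0, 1, 2, 2, 0,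
  0], [0, 0, 2, 0, 1, 0, 0], [0, 1, 0, 1, 2, 2, 1], [0, 1, 0, 2, 1, 1, 0], [0, 1, 1, 0, 1, 1, 0], [0, 1, 2, 0, 0, 1,
  0], [0, 1, 2, 0, 1, 1, 0], [0, 1, 2, 0, 1, 2, 0], [0, 2, 0, 0, 1, 0, 0], [0, 2, 0, 0, 1, 1, 0], [0, 2, 1, 0, 0, 1,
  0], [0, 2, 2, 0, 1, 1, 0], [0, 2, 2, 0, 1, 2, 0], [1, 0, 1, 0, 2, 0, 0], [1, 0, 1, 1, 0, 0, 1], [1, 0, 1, 1, 2, 1,
  1], [1, 1, 0, 2, 1, 0, 2], [1, 1, 2, 0, 1, 0, 0], [1, 1, 2, 2, 1, 0, 0], [1, 2, 0, 1, 1, 0, 0], [1, 2, 0, 1, 2, 0,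
  0], [1, 2, 1, 0, 0, 1, 0], [1, 2, 1, 0, 1, 0, 0], [1, 2, 1, 0, 1, 2, 0], [1, 2, 2, 1, 0, 1, 0], [2, 0, 0, 2, 1, 1,
  0], [2, 1, 0, 1, 1, 0, 0], [2, 1, 0, 2, 1, 1, 0], [2, 1, 1, 0, 1, 0, 0], [2, 2, 1, 0, 0, 1, 0], [2, 2, 1, 0, 1, 0,
  0], [2, 2, 1, 0, 1, 1, 0], [0, 0, 1, 2, 0, 0, 1, 0], [0, 0, 2, 0, 0, 1, 1, 0], [0, 1, 1, 2, 0, 1, 0, 0], [0, 2, 1,
  0, 1, 1, 0, 0], [1, 2, 1, 0, 1, 1, 0, 0], [1, 2, 1, 1, 0, 1, 0, 0], [2, 1, 1, 2, 0, 1, 0, 0]]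

/-- The key of a conjugate of the standard rotation. -/
def wkey (w : List ℕ) : ℕ := key (wact g1 w 10) (wact g1 w 18)

/-- The fixed space. -/
def F0 : List ℕ := [0, 1, 4, 5, 16, 17, 20, 21, 42, 43, 46, 47, 58, 59, 62, 63]

/-- A linear map of the fixed space by the images of a basis. -/
def apF (t : ℕ × ℕ × ℕ × ℕ) (x : ℕ) : ℕ :=
  (bif pB x 4 then t.1 else 0) ^^^ (bif pB x 1 then t.2.1 else 0) ^^^ (bif pB x 58 then t.2.2.1 else 0) ^^^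
    (bif pB x 42 then t.2.2.2 else 0)

/-- The isometries of the fixed space. -/
def isoF : List (ℕ × ℕ × ℕ × ℕ) :=
  [(1, 4, 42, 58), (1, 4, 58, 42), (1, 21, 43, 59), (1, 21, 59, 43), (1, 46, 42, 59), (1, 46, 59, 42), (1, 62, 43,
  58), (1, 62, 58, 43), (4, 1, 42, 58), (4, 1, 58, 42), (4, 21, 46, 62), (4, 21, 62, 46), (4, 43, 42, 62), (4, 43,
  62, 42), (4, 59, 46, 58), (4, 59, 58, 46), (21, 1, 43, 59), (21, 1, 59, 43), (21, 4, 46, 62), (21, 4, 62, 46),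
  (21, 42, 43, 46), (21, 42, 46, 43), (21, 58, 59, 62), (21, 58, 62, 59), (42, 21, 43, 46), (42, 21, 46, 43), (42,
  58, 1, 4), (42, 58, 4, 1), (42, 59, 1, 46), (42, 59, 46, 1), (42, 62, 4, 43), (42, 62, 43, 4), (43, 4, 42, 62),
  (43, 4, 62, 42), (43, 46, 21, 42), (43, 46, 42, 21), (43, 58, 1, 62), (43, 58, 62, 1), (43, 59, 1, 21), (43, 59,
  21, 1), (46, 1, 42, 59), (46, 1, 59, 42), (46, 43, 21, 42), (46, 43, 42, 21), (46, 58, 4, 59), (46, 58, 59, 4),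
  (46, 62, 4, 21), (46, 62, 21, 4), (58, 21, 59, 62), (58, 21, 62, 59), (58, 42, 1, 4), (58, 42, 4, 1), (58, 43, 1,
  62), (58, 43, 62, 1), (58, 46, 4, 59), (58, 46, 59, 4), (59, 4, 46, 58), (59, 4, 58, 46), (59, 42, 1, 46), (59,
  42, 46, 1), (59, 43, 1, 21), (59, 43, 21, 1), (59, 62, 21, 58), (59, 62, 58, 21), (62, 1, 43, 58), (62, 1, 58,
  43), (62, 42, 4, 43), (62, 42, 43, 4), (62, 46, 4, 21), (62, 46, 21, 4), (62, 59, 21, 58), (62, 59, 58, 21)]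

/-- A power of a map of the fixed space on a vector. -/
def iterF (t : ℕ × ℕ × ℕ × ℕ) : ℕ → ℕ → ℕ
  | 0, x => x
  | n + 1, x => apF t (iterF t n x)

/-- The isometries whose twenty-seventh power is trivial. -/
def oddF : List (ℕ × ℕ × ℕ × ℕ) :=
  isoF.filter fun t => [1, 4, 42, 58].all fun x => iterF t 27 x == x

theorem class_len : (classW.length == 240) = true ∧ (classW.map wkey).Nodup ∧
    (classW.all fun w => w.all fun i => decide (i < g1.length)) = true := by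
  decide +kernel

theorem class_all : ((List.range 64).all fun a => !qT a || (List.range 64).all fun b => !qT b || !pT a b ||
    (classW.map wkey).contains (key a b)) = true := by
  decide +kernel

theorem F0_ok : ((List.range 64).all fun x => (F0.contains x == (r0 x == x)) &&
    (F0.contains x == (!pB x 10 && !pB x 18))) = true ∧
    (F0.all fun x => apF (1, 4, 42, 58) x == x) = true ∧ F0.length = 16 ∧ F0.Nodup := by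
  decide +kernel

theorem isoF_ok : (F0.all fun a => qB a || a == 0 || F0.all fun b => qB b || b == 0 || !pB a b || F0.all fun c =>
    qB c || c == 0 || pB a c || pB b c || F0.all fun d => qB d || d == 0 || pB a d || pB b d || !pB c d ||
      isoF.contains (a, b, c, d)) = true := by
  decide +kernel

theorem oddF_comm : (oddF.all fun s => oddF.all fun t => [1, 4, 42, 58].all fun x =>
    apF s (apF t x) == apF t (apF s x)) = true := by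
  decide +kernel

theorem line_ok : r0 10 = 18 ∧ r0 18 = 24 ∧ r0 24 = 10 ∧
    ((List.range 64).all fun x => !qT x || x == 10 || x == 18 || x == 24 || [1, 4, 42, 58].any fun v => pB x v) = true := by
  decide +kernel

theorem split_ok : ((List.range 64).all fun x => F0.any fun f => [0, 10, 18, 24].any fun l => f ^^^ l == x) = true := by
  decide +kernel

/-- A word in the stabiliser inverting the standard rotation. -/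
theorem invert_ok : ((List.range 64).all fun x =>
    wact g2 [1, 0, 0, 1, 1, 0, 1] (r0 x) == r0 (r0 (wact g2 [1, 0, 0, 1, 1, 0, 1] x))) = true := by
  decide +kernel

/-- A second rotation, an element inverting it, and one moving the first to it. -/
theorem second_ok :
    ((List.range 64).all fun x => rot 5 17 (r0 x) == r0 (rot 5 17 x)) = true ∧
    ((List.range 64).all fun x => wact g1 [2, 0, 1, 0, 0, 1, 2, 2] (r0 x) == r0 (wact g1 [2, 0, 1, 0, 0, 1, 2, 2] x) &&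
      wact g1 [2, 0, 1, 0, 0, 1, 2, 2] (rot 5 17 x) == rot 17 5 (wact g1 [2, 0, 1, 0, 0, 1, 2, 2] x) &&
      wact g1 [1, 0, 2, 0] (r0 x) == rot 17 5 (wact g1 [1, 0, 2, 0] x) &&
      rot 5 17 (rot 17 5 x) == x && rot 5 17 (rot 5 17 (rot 5 17 x)) == x) = true ∧
    (F0.any fun x => rot 5 17 x == x && x != 0 && qT x) = true := by
  decide +kernel

end Cfsg.Lib.SuzukiType.ThreeU43.Code
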