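import Cfsg.Agent.SuzukiType.ThreeU43.Cent
import Cfsg.Agent.UFourThreeType.Setting

/-!
The centralizer of the element of order three modulo that element has an involution centralizer of unitary type.
-/

set_option autoImplicit false
set_option maxRecDepth 100000
set_option maxHeartbeats 1000000
set_option linter.unusedSectionVars false
set_option linter.style.haveILetI false

namespace Cfsg.Lib.SuzukiType.ThreeU43

open Subgroup Cfsg.Lib.SuzukiType.Code Cfsg.Lib.SuzukiType.ThreeU43.Code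
open Cfsg.Lib.LargeExtra (X2 mem_map_conj)
open Cfsg.Lib.UFourThreeType (pw)
open Cfsg.Lib.Classical.OrthH1 (lN pN sN)
open scoped commutatorElement

universe u

theorem F0_mem {x : ℕ} (hx : x < 64) : x ∈ F0 ↔ r0 x = x := by
  have h := List.all_eq_true.mp F0_ok.1 x (List.mem_range.mpr hx)
  simp only [Bool.and_eq_true, beq_iff_eq] at h
  constructor
  · intro e
    have h1 := h.1
    rw [List.contains_iff_mem.mpr e] at h1
    exact beq_iff_eq.mp h1.symm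
  · intro e
    have h1 := h.1
    rw [beq_iff_eq.mpr e] at h1
    exact List.contains_iff_mem.mp h1

theorem F0_lt : ∀ x ∈ F0, x < 64 := by decide

theorem CG_r0 {h : O6} (hh : h ∈ CG) {x : ℕ} (hx : x < 64) : cd h (r0 x) = r0 (cd h x) := by
  rw [← cd_g0 hx, ← cd_g0 (cd_lt h x), ← cd_mul, ← cd_mul, (mem_CG.mp hh).2.eq]

theorem CG_F0 {h : O6} (hh : h ∈ CG) {x : ℕ} (hx : x ∈ F0) : cd h x ∈ F0 := by
  rw [F0_mem (cd_lt _ _), ← CG_r0 hh (F0_lt x hx), (F0_mem (F0_lt x hx)).mp hx]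

/-- The images of the basis of the fixed space. -/
noncomputable def imgs (h : O6) : ℕ × ℕ × ℕ × ℕ := (cd h 1, cd h 4, cd h 42, cd h 58)

theorem apF_cd (h : O6) {x : ℕ} (hx : x ∈ F0) : apF (imgs h) x = cd h x := by
  have e := beq_iff_eq.mp (List.all_eq_true.mp F0_ok.2.1 x hx)
  conv_rhs => rw [← e]
  simp only [apF, imgs, cd_xor, cd_bif]

theorem imgs_mem {h : O6} (hh : h ∈ CG) : imgs h ∈ isoF := by
  have hF : ∀ v ∈ [1, 4, 42, 58], v ∈ F0 ∧ v < 64 ∧ qB v = false ∧ v ≠ 0 := by decide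
  have key : ∀ v ∈ [1, 4, 42, 58], cd h v ∈ F0 ∧ qB (cd h v) = false ∧ cd h v ≠ 0 := fun v hv => by
    obtain ⟨h1, h2, h3, h4⟩ := hF v hv
    refine ⟨CG_F0 hh h1, by rw [cd_q h h2, h3], fun e => h4 ?_⟩
    rw [← cd_inv h h2, e, cd_zero]
  obtain ⟨a1, a2, a3⟩ := key 1 (by simp); obtain ⟨b1, b2, b3⟩ := key 4 (by simp)
  obtain ⟨c1, c2, c3⟩ := key 42 (by simp); obtain ⟨d1, d2, d3⟩ := key 58 (by simp)
  have h0 := List.all_eq_true.mp isoF_ok _ a1
  simp only [a2, beq_iff_eq, a3, Bool.false_or, Bool.or_eq_true, false_or, List.all_eq_true] at h0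
  have h1 := h0 _ b1
  simp only [b2, beq_iff_eq, b3, Bool.or_eq_true, false_or, cd_p h (show 1 < 64 by norm_num) (show 4 < 64 by norm_num),
    show pB 1 4 = true by decide, Bool.not_true, Bool.false_eq_true, List.all_eq_true] at h1
  have h2 := h1 _ c1
  simp only [c2, beq_iff_eq, c3, Bool.or_eq_true, false_or, cd_p h (show 1 < 64 by norm_num) (show 42 < 64 by norm_num),
    cd_p h (show 4 < 64 by norm_num) (show 42 < 64 by norm_num), show pB 1 42 = false by decide,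
    show pB 4 42 = false by decide, Bool.false_eq_true, List.all_eq_true] at h2
  have h3 := h2 _ d1
  simpa only [d2, beq_iff_eq, d3, Bool.or_eq_true, false_or, cd_p h (show 1 < 64 by norm_num) (show 58 < 64 by norm_num),
    cd_p h (show 4 < 64 by norm_num) (show 58 < 64 by norm_num), cd_p h (show 42 < 64 by norm_num)
    (show 58 < 64 by norm_num), show pB 1 58 = false by decide, show pB 4 58 = false by decide,
    show pB 42 58 = true by decide, Bool.not_true, Bool.false_eq_true, List.contains_iff_mem, imgs] using h3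

theorem line_image {h : O6} (hh : h ∈ CG) : cd h 10 = 10 ∨ cd h 10 = 18 ∨ cd h 10 = 24 := by
  have hl := cd_lt h 10
  have h0 := List.all_eq_true.mp line_ok.2.2.2 _ (List.mem_range.mpr hl)
  simp only [qT_eq hl, cd_q h (show 10 < 64 by norm_num), show qB 10 = true by decide, Bool.not_true, Bool.false_or,
    Bool.or_eq_true, beq_iff_eq, List.any_eq_true] at h0
  rcases h0 with ((e | e) | e) | ⟨v, hv, hp⟩
  · exact Or.inl e
  · exact Or.inr (Or.inl e)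
  · exact Or.inr (Or.inr e)
  · exfalso
    have hv' : v ∈ F0 := (by decide : ∀ v ∈ [1, 4, 42, 58], v ∈ F0) v hv
    have hi : h⁻¹ ∈ CG := inv_mem hh
    have hF := CG_F0 hi hv'
    rw [← cd_p h⁻¹ hl (F0_lt v hv'), cd_inv h (by norm_num), pB_symm 10 (by norm_num) _ (cd_lt _ _)] at hp
    have := List.all_eq_true.mp F0_ok.1 _ (List.mem_range.mpr (cd_lt h⁻¹ v))
    simp only [Bool.and_eq_true, beq_iff_eq, List.contains_iff_mem.mpr hF] at this
    have h2 := this.2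
    rw [hp] at h2
    simp at h2

/-- Two elements of the centralizer agreeing on the fixed space and at one vector of the line are equal. -/
theorem CG_ext {g h : O6} (hg : g ∈ CG) (hh : h ∈ CG) (eF : ∀ x ∈ F0, cd g x = cd h x) (e10 : cd g 10 = cd h 10) :
    g = h := by
  refine cd_ext fun x hx => ?_
  obtain ⟨f, hf, hx'⟩ := List.any_eq_true.mp (List.all_eq_true.mp split_ok x (List.mem_range.mpr hx))
  obtain ⟨l, hl, e⟩ := List.any_eq_true.mp hx'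
  rw [← beq_iff_eq.mp e, cd_xor, cd_xor, eF f hf]
  congr 1
  have e18 : cd g 18 = cd h 18 := by
    have := line_ok.1
    rw [← this, CG_r0 hg (by norm_num), CG_r0 hh (by norm_num), e10]
  simp only [List.mem_cons, List.not_mem_nil, or_false] at hl
  rcases hl with rfl | rfl | rfl | rfl
  · rw [cd_zero, cd_zero]
  · exact e10
  · exact e18
  · rw [show (24 : ℕ) = 10 ^^^ 18 by decide, cd_xor, cd_xor, e10, e18]

theorem g0_CG : g0 ∈ CG := mem_CG.mpr ⟨g0_mem, Commute.refl _⟩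

theorem g0_pow {h : O6} (hh : h ∈ CG) : ∃ i < 3, cd h 10 = cd (g0 ^ i) 10 := by
  rcases line_image hh with e | e | e
  · exact ⟨0, by norm_num, by rw [e, pow_zero, cd_one (by norm_num)]⟩
  · exact ⟨1, by norm_num, by rw [e, pow_one, cd_g0 (by norm_num), line_ok.1]⟩
  · exact ⟨2, by norm_num, by rw [e, pow_two, cd_mul, cd_g0 (show 10 < 64 by norm_num), line_ok.1,
      cd_g0 (show 18 < 64 by norm_num), line_ok.2.1]⟩

theorem iter_cd {h : O6} (hh : h ∈ CG) : ∀ (n : ℕ) {x : ℕ}, x ∈ F0 → iterF (imgs h) n x = cd (h ^ n) x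
  | 0, x, hx => by rw [iterF, pow_zero, cd_one (F0_lt x hx)]
  | n + 1, x, hx => by
    rw [iterF, iter_cd hh n hx, pow_succ', cd_mul, apF_cd h (CG_F0 (pow_mem hh n) hx)]

theorem odd_comm {g h : O6} (hg : g ∈ CG) (hh : h ∈ CG) (eg : g ^ 27 = 1) (eh : h ^ 27 = 1) : g * h = h * g := by
  have hodd : ∀ {k : O6}, k ∈ CG → k ^ 27 = 1 → imgs k ∈ oddF := fun {k} hk e => by
    rw [oddF, List.mem_filter, List.all_eq_true]
    refine ⟨imgs_mem hk, fun x hx => beq_iff_eq.mpr ?_⟩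
    have hF : ∀ v ∈ [1, 4, 42, 58], v ∈ F0 ∧ v < 64 := by decide
    rw [iter_cd hk 27 (hF x hx).1, e, cd_one (hF x hx).2]
  refine CG_ext (mul_mem hg hh) (mul_mem hh hg) (fun x hx => ?_) ?_
  · have hbase : ∀ v ∈ [1, 4, 42, 58], cd (g * h) v = cd (h * g) v := fun v hv => by
      have hF : ∀ v ∈ [1, 4, 42, 58], v ∈ F0 := by decide
      rw [cd_mul, cd_mul, ← apF_cd g (CG_F0 hh (hF v hv)), ← apF_cd h (hF v hv), ← apF_cd h (CG_F0 hg (hF v hv)),
        ← apF_cd g (hF v hv)]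
      exact beq_iff_eq.mp (List.all_eq_true.mp (List.all_eq_true.mp (List.all_eq_true.mp oddF_comm _ (hodd hg eg)) _
        (hodd hh eh)) v hv)
    rw [← apF_cd (g * h) hx, ← apF_cd (h * g) hx, imgs, imgs, hbase 1 (by simp), hbase 4 (by simp),
      hbase 42 (by simp), hbase 58 (by simp)]
  · obtain ⟨i, -, hi⟩ := g0_pow hg
    obtain ⟨j, -, hj⟩ := g0_pow hh
    have hc : ∀ {k : O6}, k ∈ CG → ∀ n : ℕ, cd k (cd (g0 ^ n) 10) = cd (g0 ^ n) (cd k 10) := fun {k} hk n => by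
      rw [← cd_mul, ← cd_mul, ((mem_CG.mp hk).2.pow_right n).eq]
    rw [cd_mul, cd_mul, hj, hc hg, hi, hc hh, hj, ← cd_mul, ← cd_mul, ← pow_add, ← pow_add, add_comm]

variable {G : Type u} [Group G] [Finite G] {z : G}

namespace Three

variable (T : Three z)

/-- The centralizer of the element. -/
def M : Subgroup G := centralizer ({T.y} : Set G)

theorem mem_M {x : G} : x ∈ T.M ↔ Commute x T.y := mem_centralizer_singleton_iff

/-- The group generated by the element, inside its centralizer. -/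
def Ym : Subgroup ↥T.M := (zpowers T.y).subgroupOf T.M

theorem mem_Ym {x : ↥T.M} : x ∈ T.Ym ↔ (x : G) ∈ zpowers T.y := mem_subgroupOf

instance Ym_normal : T.Ym.Normal := ⟨fun n hn g => by
  rw [T.mem_Ym] at hn ⊢
  obtain ⟨i, hi⟩ := mem_zpowers_iff.mp hn
  push_cast
  rw [← hi, ((T.mem_M.mp g.2).zpow_right i).eq, mul_inv_cancel_right]
  exact ⟨i, rfl⟩⟩

/-- The quotient. -/
abbrev Hb : Type u := ↥T.M ⧸ T.Ym

/-- The projection. -/
def pr : ↥T.M →* T.Hb := QuotientGroup.mk' T.Ym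

theorem pr_eq {a b : ↥T.M} : T.pr a = T.pr b ↔ ∃ i : ℕ, i < 3 ∧ (b : G) = (a : G) * T.y ^ i := by
  show (a : T.Hb) = (b : T.Hb) ↔ _
  rw [QuotientGroup.eq, T.mem_Ym]
  push_cast
  constructor
  · intro h
    classical
    obtain ⟨i, hi, e⟩ := Finset.mem_image.mp
      ((IsOfFinOrder.mem_zpowers_iff_mem_range_orderOf (isOfFinOrder_of_finite T.y)).mp h)
    rw [Finset.mem_range, T.y3] at hi
    exact ⟨i, hi, by rw [e, mul_inv_cancel_left]⟩
  · rintro ⟨i, -, e⟩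
    rw [e, inv_mul_cancel_left]
    exact pow_mem (mem_zpowers _) i

theorem pow_y_eq_one {i : ℕ} (hi : i < 3) {n : ℕ} (hn : ¬ 3 ∣ n) (h : (T.y ^ i) ^ n = 1) : T.y ^ i = 1 := by
  rw [← pow_mul] at h
  have := orderOf_dvd_of_pow_eq_one h
  rw [T.y3] at this
  rcases (Nat.Prime.dvd_mul Nat.prime_three).mp this with e | e
  · obtain rfl : i = 0 := by omega
    exact pow_zero _
  · exact absurd e hn

theorem Q0_four {q : G} (hq : q ∈ T.Q0) : q ^ 4 = 1 := by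
  rcases T.X.sq q (T.mem_Q0.mp hq).1 with e | e <;>
    rw [show q ^ 4 = (q * q) * (q * q) by rw [← sq, ← sq, ← pow_mul], e]
  · exact one_mul 1
  · exact T.X.zz

/-- A two-element of the centraliser congruent to another one is equal to it. -/
theorem eq_of_pr {a b : ↥T.M} (ha : (a : G) ^ 4 = 1) (hb : (b : G) ^ 4 = 1) (h : T.pr a = T.pr b) : a = b := by
  obtain ⟨i, hi, e⟩ := T.pr_eq.mp h
  refine Subtype.ext ?_
  have hc : Commute (a : G) (T.y ^ i) := (T.mem_M.mp a.2).pow_right i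
  have : (T.y ^ i) ^ 4 = 1 := by
    rw [e, hc.mul_pow, ha, one_mul] at hb
    exact hb
  rw [e, T.pow_y_eq_one hi (by norm_num) this, mul_one]

theorem Q0_M {q : G} (hq : q ∈ T.Q0) : q ∈ T.M := T.mem_M.mpr (T.mem_Q0.mp hq).2

theorem z_Q0 : z ∈ T.Q0 := T.mem_Q0.mpr ⟨T.X.mem, T.yz.symm⟩

theorem s_Q0 : T.s ∈ T.Q0 := T.mem_Q0.mpr ⟨T.hs, T.ys.symm⟩

/-- The involution in the quotient. -/
def zb : T.Hb := T.pr ⟨z, T.Q0_M T.z_Q0⟩

/-- The fixed group in the quotient. -/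
def Qb : Subgroup T.Hb := (T.Q0.subgroupOf T.M).map T.pr

theorem mem_Qb {w : T.Hb} : w ∈ T.Qb ↔ ∃ q, ∃ hq : q ∈ T.Q0, T.pr ⟨q, T.Q0_M hq⟩ = w := by
  constructor
  · rintro ⟨q, hq, rfl⟩; exact ⟨q, hq, rfl⟩
  · rintro ⟨q, hq, rfl⟩; exact ⟨⟨q, T.Q0_M hq⟩, hq, rfl⟩

theorem commute_zb {x : ↥T.M} : Commute (T.pr x) T.zb ↔ Commute (x : G) z := by
  constructor
  · intro h
    have h' : T.pr (x * ⟨z, T.Q0_M T.z_Q0⟩ * x⁻¹) = T.zb := by
      rw [map_mul, map_mul, map_inv]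
      show T.pr x * T.zb * (T.pr x)⁻¹ = _
      rw [h.eq, mul_inv_cancel_right]
    have := T.eq_of_pr (by
      push_cast
      rw [conj_pow, T.Q0_four T.z_Q0]; group) (T.Q0_four T.z_Q0) h'
    exact mul_inv_eq_iff_eq_mul.mp (congrArg Subtype.val this)
  · intro h
    show T.pr x * T.pr _ = T.pr _ * T.pr x
    rw [← map_mul, ← map_mul]
    exact congrArg T.pr (Subtype.ext h.eq)

theorem zb_order : orderOf T.zb = 2 := by
  refine orderOf_eq_prime ?_ fun e => ?_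
  · rw [zb, ← map_pow, show (⟨z, T.Q0_M T.z_Q0⟩ : ↥T.M) ^ 2 = 1 from Subtype.ext (by
      push_cast; rw [sq]; exact T.X.zz), map_one]
  · rw [← map_one T.pr, zb] at e
    exact T.X.ne (congrArg Subtype.val (T.eq_of_pr (T.Q0_four T.z_Q0) (one_pow 4) e))

theorem CZ_eq : centralizer ({T.zb} : Set T.Hb) = (T.MC.subgroupOf T.M).map T.pr := by
  ext w
  obtain ⟨x, rfl⟩ : ∃ x, T.pr x = w := QuotientGroup.mk'_surjective _ w
  rw [mem_centralizer_singleton_iff]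
  constructor
  · intro h
    exact ⟨x, T.mem_MC.mpr ⟨T.commute_zb.mp h, T.mem_M.mp x.2⟩, rfl⟩
  · rintro ⟨a, ha, e⟩
    rw [← e]
    exact (T.commute_zb.mpr (T.mem_MC.mp ha).1).eq

theorem cardCZ : Nat.card ↥(centralizer ({T.zb} : Set T.Hb)) = 1152 := by
  let φ : ↥(T.MC.subgroupOf T.M) →* T.Hb := T.pr.comp (Subgroup.subtype _)
  have hr : φ.range = (T.MC.subgroupOf T.M).map T.pr := by rw [MonoidHom.range_comp, Subgroup.range_subtype]
  have hk : Nat.card ↥φ.ker = 3 := by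
    have hy : zpowers T.y ≤ T.MC := zpowers_le.mpr T.y_MC
    rw [← T.y3, ← Nat.card_zpowers]
    refine Nat.card_congr ⟨fun x => ⟨x.1.1.1, T.mem_Ym.mp ((QuotientGroup.eq_one_iff _).mp x.2)⟩,
      fun w => ⟨⟨⟨w.1, (hy.trans inf_le_right) w.2⟩, hy w.2⟩,
        (QuotientGroup.eq_one_iff _).mpr (T.mem_Ym.mpr w.2)⟩, fun _ => rfl, fun _ => rfl⟩
  have h := φ.ker.card_mul_index
  rw [index_ker, hr, ← T.CZ_eq, hk,
    Nat.card_congr (subgroupOfEquivOfLe (show T.MC ≤ T.M from inf_le_right)).toEquiv, T.card_MC] at h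
  omega

theorem cardQb : Nat.card ↥T.Qb = 32 := by
  rw [← T.card_Q0]
  refine (Nat.card_eq_of_bijective (fun q : T.Q0 => (⟨T.pr ⟨q, T.Q0_M q.2⟩, T.mem_Qb.mpr ⟨q, q.2, rfl⟩⟩ : T.Qb))
    ⟨fun a b h => ?_, fun ⟨w, hw⟩ => ?_⟩).symm
  · have e := T.eq_of_pr (a := ⟨a, T.Q0_M a.2⟩) (b := ⟨b, T.Q0_M b.2⟩) (T.Q0_four a.2) (T.Q0_four b.2)
      (congrArg Subtype.val h)
    exact Subtype.ext (Subtype.mk.inj e)
  · obtain ⟨q, hq, rfl⟩ := T.mem_Qb.mp hw
    exact ⟨⟨q, hq⟩, rfl⟩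

theorem MC_norm {x q : G} (hx : x ∈ T.MC) (hq : q ∈ T.Q0) : x * q * x⁻¹ ∈ T.Q0 :=
  T.mem_Q0.mpr ⟨T.toCtx.norm (T.mem_MC.mp hx).1 (T.mem_Q0.mp hq).1,
    ((T.mem_MC.mp hx).2.mul_left (T.mem_Q0.mp hq).2).mul_left (T.mem_MC.mp hx).2.inv_left⟩

theorem X2b : X2 T.Qb T.zb := by
  refine ⟨T.mem_Qb.mpr ⟨z, T.z_Q0, rfl⟩, fun e => ?_, ?_, ?_, ?_, ?_, ?_, ?_⟩
  · have := T.zb_order; rw [e, orderOf_one] at this; norm_num at this
  · have := pow_orderOf_eq_one T.zb; rwa [T.zb_order, sq] at this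
  · exact IsPGroup.of_card (n := 5) (by rw [T.cardQb]; norm_num)
  · intro w hw
    obtain ⟨q, hq, rfl⟩ := T.mem_Qb.mp hw
    exact T.commute_zb.mpr (T.X.central q (T.mem_Q0.mp hq).1)
  · intro a ha b hb
    obtain ⟨p, hp, rfl⟩ := T.mem_Qb.mp ha
    obtain ⟨q, hq, rfl⟩ := T.mem_Qb.mp hb
    rw [← map_commutatorElement]
    rcases T.X.comm p (T.mem_Q0.mp hp).1 q (T.mem_Q0.mp hq).1 with e | e
    · left
      rw [show ⁅(⟨p, T.Q0_M hp⟩ : ↥T.M), (⟨q, T.Q0_M hq⟩ : ↥T.M)⁆ = (1 : ↥T.M) from Subtype.ext e, map_one]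
    · right
      exact congrArg T.pr (Subtype.ext e)
  · intro a ha
    obtain ⟨q, hq, rfl⟩ := T.mem_Qb.mp ha
    rw [← map_mul]
    rcases T.X.sq q (T.mem_Q0.mp hq).1 with e | e
    · left
      rw [show (⟨q, T.Q0_M hq⟩ : ↥T.M) * ⟨q, T.Q0_M hq⟩ = 1 from Subtype.ext e, map_one]
    · right
      exact congrArg T.pr (Subtype.ext e)
  · intro w hw hcomm
    obtain ⟨q, hq, rfl⟩ := T.mem_Qb.mp hw
    have hqQ := (T.mem_Q0.mp hq).1
    have h0 : T.π q = 0 := by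
      have hchk : ∀ x ∈ F0, x = 0 ∨ ∃ v ∈ F0, pB v x = true := by decide +kernel
      rcases hchk _ ((T.code_Q0 hqQ).mp hq) with e | ⟨v, hv, hpv⟩
      · exact e
      · exfalso
        obtain ⟨a, haQ, hav⟩ := T.π_surj v (F0_lt v hv)
        have ha : a ∈ T.Q0 := (T.code_Q0 haQ).mpr (hav.symm ▸ hv)
        have hc := hcomm _ (T.mem_Qb.mpr ⟨a, ha, rfl⟩)
        rcases T.X.comm a haQ q hqQ with e | e
        · rw [← hav, (T.π_comm a haQ q hqQ).mp (commutatorElement_eq_one_iff_commute.mp e)] at hpv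
          exact Bool.false_ne_true hpv
        · have h1 : T.pr ⁅(⟨a, T.Q0_M ha⟩ : ↥T.M), ⟨q, T.Q0_M hq⟩⁆ = 1 := by
            rw [map_commutatorElement]; exact commutatorElement_eq_one_iff_commute.mpr hc
          rw [show ⁅(⟨a, T.Q0_M ha⟩ : ↥T.M), (⟨q, T.Q0_M hq⟩ : ↥T.M)⁆ = ⟨z, T.Q0_M T.z_Q0⟩ from Subtype.ext e] at h1
          have := T.zb_order
          rw [zb, h1, orderOf_one] at this
          norm_num at this
    rcases (T.π_zero q hqQ).mp h0 with rfl | rfl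
    · left; exact map_one T.pr
    · right; rfl

theorem pr_y : T.pr ⟨T.y, T.mem_M.mpr (Commute.refl _)⟩ = 1 :=
  (QuotientGroup.eq_one_iff _).mpr (T.mem_Ym.mpr (mem_zpowers _))

theorem cQb : centralizer (T.Qb : Set T.Hb) ≤ T.Qb := by
  intro w hw
  rw [mem_centralizer_iff] at hw
  have hwz : w ∈ centralizer ({T.zb} : Set T.Hb) :=
    mem_centralizer_singleton_iff.mpr (hw _ (T.mem_Qb.mpr ⟨z, T.z_Q0, rfl⟩)).symm
  rw [T.CZ_eq] at hwz
  obtain ⟨x, hx, rfl⟩ := hwz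
  have hxMC : (x : G) ∈ T.MC := hx
  have hxz := (T.mem_MC.mp hxMC).1
  have hfix : ∀ v ∈ F0, cd (T.toCtx.m x) v = v := fun v hv => by
    obtain ⟨q, hqQ, rfl⟩ := T.π_surj v (F0_lt v hv)
    have hq : q ∈ T.Q0 := (T.code_Q0 hqQ).mpr hv
    have h1 := hw _ (T.mem_Qb.mpr ⟨q, hq, rfl⟩)
    have h2 : T.pr (x * ⟨q, T.Q0_M hq⟩ * x⁻¹) = T.pr ⟨q, T.Q0_M hq⟩ := by
      rw [map_mul, map_mul, map_inv, ← h1, mul_inv_cancel_right]
    have h3 := congrArg Subtype.val (T.eq_of_pr (by push_cast; exact T.Q0_four (T.MC_norm hxMC hq)) (T.Q0_four hq) h2)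
    push_cast at h3
    rw [← T.toCtx.act hxz hqQ, h3]
  obtain ⟨i, -, hi⟩ := g0_pow (T.m_CG hxMC)
  have hm : T.toCtx.m x = g0 ^ i := CG_ext (T.m_CG hxMC) (pow_mem g0_CG i) (fun v hv => by
    rw [hfix v hv]
    have h0 := (F0_mem (F0_lt v hv)).mp hv
    have : ∀ n : ℕ, cd (g0 ^ n) v = v := fun n => by
      induction n with
      | zero => rw [pow_zero, cd_one (F0_lt v hv)]
      | succ n ih => rw [pow_succ, cd_mul, cd_g0 (F0_lt v hv), h0, ih]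
    exact (this i).symm) hi
  have hmp : ∀ n : ℕ, T.toCtx.m (T.y ^ n) = g0 ^ n := fun n => by
    induction n with
    | zero => rw [pow_zero, pow_zero, T.toCtx.m_one]
    | succ n ih => rw [pow_succ, pow_succ, T.toCtx.m_mul (T.yz.pow_left n) T.yz, ih, T.my]
  have hyi : Commute ((T.y ^ i)⁻¹) z := (T.yz.pow_left i).inv_left
  have hqQ : (x : G) * (T.y ^ i)⁻¹ ∈ T.Q := by
    rw [← T.toCtx.m_one_iff (hxz.mul_left hyi), T.toCtx.m_mul hxz hyi, T.toCtx.m_inv (T.yz.pow_left i), hmp, hm,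
      mul_inv_cancel]
  have hq : (x : G) * (T.y ^ i)⁻¹ ∈ T.Q0 :=
    T.mem_Q0.mpr ⟨hqQ, (T.mem_MC.mp hxMC).2.mul_left ((Commute.refl T.y).pow_left i).inv_left⟩
  refine T.mem_Qb.mpr ⟨_, hq, ?_⟩
  rw [show (⟨(x : G) * (T.y ^ i)⁻¹, T.Q0_M hq⟩ : ↥T.M) = x * (⟨T.y, T.mem_M.mpr (Commute.refl _)⟩ ^ i)⁻¹ from
    Subtype.ext (by push_cast; rfl), map_mul, map_inv, map_pow, pr_y, one_pow, inv_one, mul_one]

theorem nQb : centralizer ({T.zb} : Set T.Hb) ≤ normalizer (T.Qb : Set T.Hb) := by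
  rw [T.CZ_eq]
  rintro _ ⟨x, hx, rfl⟩
  rw [mem_normalizer_iff]
  have key : ∀ {a : ↥T.M}, (a : G) ∈ T.MC → ∀ w, w ∈ T.Qb → T.pr a * w * (T.pr a)⁻¹ ∈ T.Qb := fun {a} ha w hw => by
    obtain ⟨q, hq, rfl⟩ := T.mem_Qb.mp hw
    exact T.mem_Qb.mpr ⟨_, T.MC_norm ha hq, by rw [← map_inv, ← map_mul, ← map_mul]; rfl⟩
  refine fun w => ⟨key hx w, fun h => ?_⟩
  have := key (a := x⁻¹) (by push_cast; exact inv_mem hx) _ h
  rwa [map_inv, inv_inv, show (T.pr x)⁻¹ * (T.pr x * w * (T.pr x)⁻¹) * T.pr x = w by group] at this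

/-- A basis of the fixed group. -/
theorem exists_basis : Nonempty (Cfsg.Lib.UFourThreeType.Basis T.zb T.Qb) := by
  have hF : (4 : ℕ) ∈ F0 ∧ (42 : ℕ) ∈ F0 ∧ (58 : ℕ) ∈ F0 := by decide
  obtain ⟨x, hxQ, hx⟩ := T.π_surj 4 (by norm_num)
  obtain ⟨a, haQ, ha⟩ := T.π_surj 42 (by norm_num)
  obtain ⟨b, hbQ, hb⟩ := T.π_surj 58 (by norm_num)
  have hsQ := T.hs
  have x0 : x ∈ T.Q0 := (T.code_Q0 hxQ).mpr (hx ▸ hF.1)
  have a0 : a ∈ T.Q0 := (T.code_Q0 haQ).mpr (ha ▸ hF.2.1)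
  have b0 : b ∈ T.Q0 := (T.code_Q0 hbQ).mpr (hb ▸ hF.2.2)
  have inv1 : ∀ {q}, q ∈ T.Q → qB (T.π q) = false → q * q = 1 := fun hq h => (T.π_sq _ hq).mpr h
  have com : ∀ {p q}, p ∈ T.Q → q ∈ T.Q → pB (T.π p) (T.π q) = false → Commute p q := fun hp hq h =>
    (T.π_comm _ hp _ hq).mpr h
  have ncom : ∀ {p q}, p ∈ T.Q → q ∈ T.Q → p * p = 1 → q * q = 1 → pB (T.π p) (T.π q) = true →
      p * q * p * q = z := by
    intro p q hp hq pp qq h
    rcases T.X.comm p hp q hq with e | e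
    · rw [(T.π_comm p hp q hq).mp (commutatorElement_eq_one_iff_commute.mp e)] at h
      exact absurd h Bool.false_ne_true
    · rwa [commutatorElement_def, inv_eq_of_mul_eq_one_left pp, inv_eq_of_mul_eq_one_left qq] at e
  have ss := inv1 hsQ (by rw [T.πs]; decide)
  have xx := inv1 hxQ (by rw [hx]; decide)
  have aa := inv1 haQ (by rw [ha]; decide)
  have bb := inv1 hbQ (by rw [hb]; decide)
  let P : (q : G) → q ∈ T.Q0 → T.Hb := fun q hq => T.pr ⟨q, T.Q0_M hq⟩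
  have hP : ∀ {q : G} (hq : q ∈ T.Q0), P q hq ∈ T.Qb := fun hq => T.mem_Qb.mpr ⟨_, hq, rfl⟩
  refine ⟨{ s := P T.s T.s_Q0, x := P x x0, a := P a a0, b := P b b0,
            hs := hP T.s_Q0, hx := hP x0, ha := hP a0, hb := hP b0,
            ss := ?_, xx := ?_, aa := ?_, bb := ?_, sx := ?_, ab := ?_, sa := ?_, sb := ?_, xa := ?_, xb := ?_,
            spans := ?_ }⟩
  all_goals try
    simp only [P, zb, Commute, SemiconjBy, ← map_mul]
  · exact (congrArg T.pr (Subtype.ext ss)).trans (map_one _)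
  · exact (congrArg T.pr (Subtype.ext xx)).trans (map_one _)
  · exact (congrArg T.pr (Subtype.ext aa)).trans (map_one _)
  · exact (congrArg T.pr (Subtype.ext bb)).trans (map_one _)
  · exact congrArg T.pr (Subtype.ext (ncom hsQ hxQ ss xx (by rw [T.πs, hx]; decide)))
  · exact congrArg T.pr (Subtype.ext (ncom haQ hbQ aa bb (by rw [ha, hb]; decide)))
  · exact congrArg T.pr (Subtype.ext (com hsQ haQ (by rw [T.πs, ha]; decide)).eq)
  · exact congrArg T.pr (Subtype.ext (com hsQ hbQ (by rw [T.πs, hb]; decide)).eq)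
  · exact congrArg T.pr (Subtype.ext (com hxQ haQ (by rw [hx, ha]; decide)).eq)
  · exact congrArg T.pr (Subtype.ext (com hxQ hbQ (by rw [hx, hb]; decide)).eq)
  · intro w hw
    obtain ⟨q, hq, rfl⟩ := T.mem_Qb.mp hw
    have hqQ := (T.mem_Q0.mp hq).1
    have hcode := beq_iff_eq.mp (List.all_eq_true.mp F0_ok.2.1 _ ((T.code_Q0 hqQ).mp hq))
    set i := pB (T.π q) 4
    set k := pB (T.π q) 1
    set j := pB (T.π q) 58
    set l := pB (T.π q) 42
    have hm : ∀ {p}, p ∈ T.Q0 → ∀ c : Bool, (bif c then p else 1) ∈ T.Q0 := fun {p} hp c => by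
      cases c <;> simp [hp, one_mem]
    have hpi : ∀ p (c : Bool), T.π (bif c then p else 1) = bif c then T.π p else 0 := fun p c => by
      cases c <;> simp [T.toCtx.pi_one]
    set w0 := (bif i then T.s else 1) * (bif j then a else 1) * (bif k then x else 1) * (bif l then b else 1)
    have m1 := hm T.s_Q0 i; have m2 := hm a0 j; have m3 := hm x0 k; have m4 := hm b0 l
    have q1 := (T.mem_Q0.mp m1).1; have q2 := (T.mem_Q0.mp m2).1
    have q3 := (T.mem_Q0.mp m3).1; have q4 := (T.mem_Q0.mp m4).1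
    have hπw : T.π w0 = T.π q := by
      rw [T.π_mul _ (mul_mem (mul_mem q1 q2) q3) _ q4, T.π_mul _ (mul_mem q1 q2) _ q3, T.π_mul _ q1 _ q2, hpi, hpi,
        hpi, hpi, T.πs, ha, hx, hb]
      conv_rhs => rw [← hcode, apF]
      simp only [i, j, k, l, Nat.xor_assoc, Nat.xor_comm, Nat.xor_left_comm]
    have hpw : ∀ {p : G} (hp : p ∈ T.Q0) (c : Bool),
        T.pr ⟨bif c then p else 1, T.Q0_M (hm hp c)⟩ = pw (P p hp) c := fun {p} hp c => by
      cases c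
      · exact map_one T.pr
      · rfl
    have hw0 : w0 ∈ T.Q := mul_mem (mul_mem (mul_mem q1 q2) q3) q4
    obtain ⟨e, he⟩ : ∃ e : Bool, q = (bif e then z else 1) * w0 := by
      rcases T.toCtx.pi_eq hqQ hw0 hπw.symm with r | r
      · exact ⟨false, by simp [r]⟩
      · exact ⟨true, r⟩
    refine ⟨e, i, j, k, l, ?_⟩
    rw [show (⟨q, T.Q0_M hq⟩ : ↥T.M) = ⟨_, T.Q0_M (hm T.z_Q0 e)⟩ * ⟨_, T.Q0_M m1⟩ * ⟨_, T.Q0_M m2⟩ *
      ⟨_, T.Q0_M m3⟩ * ⟨_, T.Q0_M m4⟩ from Subtype.ext (by simp only [Subgroup.coe_mul]; rw [he]; simp only [w0, mul_assoc]),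
      map_mul, map_mul, map_mul, map_mul, hpw T.z_Q0, hpw T.s_Q0, hpw a0, hpw x0, hpw b0]

theorem sq_lift {w : T.Hb} (hw : w * w = 1) {q : G} (hq : q ∈ T.Q0) (e : T.pr ⟨q, T.Q0_M hq⟩ = w) : q * q = 1 := by
  rw [← e, ← map_mul, ← map_one T.pr] at hw
  exact congrArg Subtype.val (T.eq_of_pr (by push_cast; rw [show (q * q) ^ 4 = q ^ 4 * q ^ 4 from
    (Commute.refl q).mul_pow 4, T.Q0_four hq, one_mul]) (one_pow 4) hw)

theorem trans_b {B : Cfsg.Lib.UFourThreeType.Basis T.zb T.Qb} :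
    ∀ w ∈ T.Qb, w * w = 1 → w ≠ 1 → w ≠ T.zb → ∃ d, Commute d T.zb ∧ d * B.s * d⁻¹ = w := by
  have get : ∀ w ∈ T.Qb, w * w = 1 → w ≠ 1 → w ≠ T.zb →
      ∃ d, Commute d T.zb ∧ d * T.pr ⟨T.s, T.Q0_M T.s_Q0⟩ * d⁻¹ = w := by
    intro w hw hww hw1 hwz
    obtain ⟨q, hq, rfl⟩ := T.mem_Qb.mp hw
    obtain ⟨c, hc, hcs⟩ := T.exists_move hq (T.sq_lift hww hq rfl)
      (fun e => hw1 (by subst e; exact map_one T.pr)) (fun e => hwz (by subst e; rfl))
    refine ⟨T.pr ⟨c, T.mem_M.mpr (T.mem_MC.mp hc).2⟩, T.commute_zb.mpr (T.mem_MC.mp hc).1, ?_⟩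
    rw [← map_inv, ← map_mul, ← map_mul]
    exact congrArg T.pr (Subtype.ext hcs)
  intro w hw hww hw1 hwz
  have hB : B.s ≠ 1 ∧ B.s ≠ T.zb := by
    constructor <;> intro e
    · have h := B.sx
      rw [e, one_mul, mul_one, B.xx] at h
      exact T.X2b.ne h.symm
    · have h := B.sx
      rw [e, mul_assoc T.zb B.x T.zb, (T.X2b.central _ B.hx).eq, ← mul_assoc, T.X2b.zz, one_mul, B.xx] at h
      exact T.X2b.ne h.symm
  obtain ⟨d, hd, hdw⟩ := get w hw hww hw1 hwz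
  obtain ⟨d', hd', hdw'⟩ := get B.s B.hs B.ss hB.1 hB.2
  refine ⟨d * d'⁻¹, hd.mul_left hd'.inv_left, ?_⟩
  rw [← hdw', ← hdw]; group

theorem odd_b : ∀ u v : T.Hb, Commute u T.zb → Commute v T.zb → Odd (orderOf u) → Odd (orderOf v) →
    u * v * u⁻¹ * v⁻¹ ∈ T.Qb := by
  intro u v hu hv ou ov
  have lift : ∀ w : T.Hb, Commute w T.zb → Odd (orderOf w) →
      ∃ x : ↥T.M, T.pr x = w ∧ (x : G) ∈ T.MC ∧ T.toCtx.m x ^ 27 = 1 := by
    intro w hw ow
    obtain ⟨x, rfl⟩ : ∃ x, T.pr x = w := QuotientGroup.mk'_surjective _ w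
    have hx : (x : G) ∈ T.MC := T.mem_MC.mpr ⟨T.commute_zb.mp hw, T.mem_M.mp x.2⟩
    refine ⟨x, rfl, hx, ?_⟩
    set n := orderOf (T.pr x)
    have h1 : T.pr (x ^ n) = T.pr 1 := by rw [map_pow, map_one]; exact pow_orderOf_eq_one _
    obtain ⟨i, -, hi⟩ := T.pr_eq.mp h1.symm
    push_cast at hi
    rw [one_mul] at hi
    have h3 : (x : G) ^ (n * 3) = 1 := by
      rw [pow_mul, hi, ← pow_mul, mul_comm, pow_mul, ← T.y3, pow_orderOf_eq_one, one_pow]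
    have hmn : ∀ k : ℕ, T.toCtx.m ((x : G) ^ k) = T.toCtx.m x ^ k := fun k => by
      induction k with
      | zero => rw [pow_zero, pow_zero, T.toCtx.m_one]
      | succ k ih => rw [pow_succ, pow_succ, T.toCtx.m_mul ((T.mem_MC.mp hx).1.pow_left k) (T.mem_MC.mp hx).1, ih]
    have hdvd : orderOf (T.toCtx.m x) ∣ n * 3 := orderOf_dvd_of_pow_eq_one (by rw [← hmn, h3, T.toCtx.m_one])
    have hodd : Odd (orderOf (T.toCtx.m x)) := Odd.of_dvd_nat (ow.mul (by decide)) hdvd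
    have h108 : orderOf (T.toCtx.m x) ∣ 4 * 27 := by
      have := orderOf_dvd_natCard (⟨_, T.m_CG hx⟩ : ↥CG)
      rwa [card_CG, Subgroup.orderOf_mk] at this
    exact orderOf_dvd_iff_pow_eq_one.mp (Nat.Coprime.dvd_of_dvd_mul_left
      (Nat.Coprime.pow_right 2 (Nat.coprime_two_right.mpr hodd)) h108)
  obtain ⟨a, rfl, ha, ea⟩ := lift u hu ou
  obtain ⟨b, rfl, hb, eb⟩ := lift v hv ov
  have haz := (T.mem_MC.mp ha).1
  have hbz := (T.mem_MC.mp hb).1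
  have hq : (a : G) * b * (a : G)⁻¹ * (b : G)⁻¹ ∈ T.Q0 := by
    refine T.mem_Q0.mpr ⟨?_, (((T.mem_MC.mp ha).2.mul_left (T.mem_MC.mp hb).2).mul_left
      (T.mem_MC.mp ha).2.inv_left).mul_left (T.mem_MC.mp hb).2.inv_left⟩
    rw [← T.toCtx.m_one_iff (((haz.mul_left hbz).mul_left haz.inv_left).mul_left hbz.inv_left),
      T.toCtx.m_mul ((haz.mul_left hbz).mul_left haz.inv_left) hbz.inv_left,
      T.toCtx.m_mul (haz.mul_left hbz) haz.inv_left, T.toCtx.m_mul haz hbz, T.toCtx.m_inv haz, T.toCtx.m_inv hbz,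
      odd_comm (T.m_CG ha) (T.m_CG hb) ea eb]
    group
  exact T.mem_Qb.mpr ⟨_, hq, by rw [← map_inv, ← map_inv, ← map_mul, ← map_mul, ← map_mul]; rfl⟩

theorem nwc_b : ∃ g : T.Hb, g * T.zb * g⁻¹ ∈ T.Qb ∧ g * T.zb * g⁻¹ ≠ T.zb := by
  obtain ⟨h, hy, hs⟩ := T.exists_swap_y
  refine ⟨T.pr ⟨h, T.mem_M.mpr hy⟩, ?_⟩
  have e : T.pr ⟨h, T.mem_M.mpr hy⟩ * T.zb * (T.pr ⟨h, T.mem_M.mpr hy⟩)⁻¹ = T.pr ⟨T.s, T.Q0_M T.s_Q0⟩ := by
    rw [zb, ← map_inv, ← map_mul, ← map_mul]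
    exact congrArg T.pr (Subtype.ext hs)
  rw [e]
  refine ⟨T.mem_Qb.mpr ⟨_, T.s_Q0, rfl⟩, fun e' => ?_⟩
  exact T.toPt.s_ne.2 (congrArg Subtype.val (T.eq_of_pr (T.Q0_four T.s_Q0) (T.Q0_four T.z_Q0) e'))

theorem meet_b : ∀ g : T.Hb, g * T.zb * g⁻¹ ∈ T.Qb → g * T.zb * g⁻¹ ≠ T.zb →
    Nat.card ↥(T.Qb ⊓ T.Qb.map (MulAut.conj g).toMonoidHom) = 4 := by
  classical
  intro g hgQ hgne
  obtain ⟨x, rfl⟩ : ∃ x, T.pr x = g := QuotientGroup.mk'_surjective _ g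
  have hxy := T.mem_M.mp x.2
  have four_conj : ∀ {w : G}, w ^ 4 = 1 → ∀ c : G, (c * w * c⁻¹) ^ 4 = 1 := fun {w} h c => by
    rw [conj_pow, h, mul_one, mul_inv_cancel]
  obtain ⟨u, hu, hue⟩ := T.mem_Qb.mp hgQ
  have hxu : (x : G) * z * (x : G)⁻¹ = u := by
    have := T.eq_of_pr (a := x * ⟨z, T.Q0_M T.z_Q0⟩ * x⁻¹) (b := ⟨u, T.Q0_M hu⟩)
      (by push_cast; exact four_conj (T.Q0_four T.z_Q0) _) (T.Q0_four hu)
      (by rw [map_mul, map_mul, map_inv, hue]; rfl)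
    exact congrArg Subtype.val this
  have huz : u ≠ z := fun e => hgne (by rw [← hue]; subst e; rfl)
  have hu1 : u ≠ 1 := fun e => T.X.ne (conj_eq_one_iff.mp (hxu.trans e))
  have huu : u * u = 1 := by
    rw [← hxu, show (x : G) * z * (x : G)⁻¹ * ((x : G) * z * (x : G)⁻¹) = (x : G) * (z * z) * (x : G)⁻¹ by group,
      T.X.zz, mul_one, mul_inv_cancel]
  have hzu : z * u ≠ 1 ∧ z * u ≠ z ∧ z * u ≠ u :=
    ⟨fun e => huz ((eq_inv_of_mul_eq_one_right e).trans T.X.inv_z), fun e => hu1 (mul_eq_left.mp e),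
      fun e => T.X.ne (mul_eq_right.mp e)⟩
  have zu0 : z * u ∈ T.Q0 := mul_mem T.z_Q0 hu
  let f : Fin 4 → T.Hb := ![1, T.zb, T.pr ⟨u, T.Q0_M hu⟩, T.pr ⟨z * u, T.Q0_M zu0⟩]
  have hmem : ∀ w : T.Hb, w ∈ T.Qb ⊓ T.Qb.map (MulAut.conj (T.pr x)).toMonoidHom ↔ w ∈ Set.range f := by
    intro w
    rw [Subgroup.mem_inf, mem_map_conj]
    constructor
    · rintro ⟨h1, h2⟩
      obtain ⟨q, hq, rfl⟩ := T.mem_Qb.mp h1
      obtain ⟨p, hp, hpe⟩ := T.mem_Qb.mp h2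
      have hxq : (x : G)⁻¹ * q * x ∈ T.Q0 := by
        have := T.eq_of_pr (a := x⁻¹ * ⟨q, T.Q0_M hq⟩ * x) (b := ⟨p, T.Q0_M hp⟩)
          (by
            have h4 := four_conj (T.Q0_four hq) (x : G)⁻¹
            rw [inv_inv] at h4
            push_cast; exact h4)
          (T.Q0_four hp) (by rw [map_mul, map_mul, map_inv, hpe])
        rw [show (x : G)⁻¹ * q * x = p from congrArg Subtype.val this]; exact hp
      rcases (T.meet_four hu hxy hxu hu1 huz hq).mp hxq with rfl | rfl | rfl | rfl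
      exacts [⟨0, (map_one T.pr).symm⟩, ⟨1, rfl⟩, ⟨2, rfl⟩, ⟨3, rfl⟩]
    · rintro ⟨i, rfl⟩
      have key : ∀ {q : G} (hq : q ∈ T.Q0), (q = 1 ∨ q = z ∨ q = u ∨ q = z * u) →
          T.pr ⟨q, T.Q0_M hq⟩ ∈ T.Qb ∧ (T.pr x)⁻¹ * T.pr ⟨q, T.Q0_M hq⟩ * T.pr x ∈ T.Qb := fun {q} hq hc =>
        ⟨T.mem_Qb.mpr ⟨q, hq, rfl⟩, T.mem_Qb.mpr ⟨_, (T.meet_four hu hxy hxu hu1 huz hq).mpr hc, by
          rw [← map_inv, ← map_mul, ← map_mul]; rfl⟩⟩
      fin_cases i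
      · have := key (one_mem _) (Or.inl rfl)
        rw [show (⟨1, T.Q0_M (one_mem _)⟩ : ↥T.M) = 1 from rfl, map_one] at this
        exact this
      · exact key T.z_Q0 (Or.inr (Or.inl rfl))
      · exact key hu (Or.inr (Or.inr (Or.inl rfl)))
      · exact key zu0 (Or.inr (Or.inr (Or.inr rfl)))
  have hval : ∀ i, ∃ q, ∃ hq : q ∈ T.Q0, T.pr ⟨q, T.Q0_M hq⟩ = f i ∧ q = ![1, z, u, z * u] i := by
    intro i
    fin_cases i
    exacts [⟨1, one_mem _, map_one T.pr, rfl⟩, ⟨z, T.z_Q0, rfl, rfl⟩, ⟨u, hu, rfl, rfl⟩, ⟨z * u, zu0, rfl, rfl⟩]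
  have hfi : Function.Injective f := by
    intro i j h
    obtain ⟨p, hp, ep, pv⟩ := hval i
    obtain ⟨q, hq, eq', qv⟩ := hval j
    have e : p = q := congrArg Subtype.val (T.eq_of_pr (T.Q0_four hp) (T.Q0_four hq) (ep.trans (h.trans eq'.symm)))
    rw [pv, qv] at e
    fin_cases i <;> fin_cases j <;> first | rfl | (exfalso; revert e; simp [T.X.ne, hu1, huz, hzu.1, hzu.2.1, hzu.2.2,
      Ne.symm T.X.ne, Ne.symm hu1, Ne.symm huz, Ne.symm hzu.1, Ne.symm hzu.2.1, Ne.symm hzu.2.2])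
  rw [Nat.card_congr (Equiv.subtypeEquivRight hmem), ← Nat.card_congr (Equiv.ofInjective f hfi), Nat.card_fin]

/-- The setting in the quotient. -/
theorem exists_ctx_b : Nonempty (Cfsg.Lib.UFourThreeType.Ctx T.zb) := by
  obtain ⟨B⟩ := T.exists_basis
  exact ⟨{ Q := T.Qb, hz := T.zb_order, X := T.X2b, cQ := T.cQb, nQ := T.nQb, cardC := T.cardCZ, cardQ := T.cardQb,
           basis := B, trans := T.trans_b, odd := T.odd_b, nwc := T.nwc_b, meet := T.meet_b }⟩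

end Three

end Cfsg.Lib.SuzukiType.ThreeU43
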